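import Cfsg.Agent.Lib.ThreeSizes.Free

/-!
# Free action on an abelian subgroup: the group-theoretic form
-/

set_option autoImplicit false

namespace Cfsg.Agent.Lib.ThreeSizes

open Subgroup

variable {G : Type*} [Group G]

/-- Conjugation by `g` preserves the subgroup. -/
def Norms (g : G) (A : Subgroup G) : Prop := ∀ a ∈ A, g * a * g⁻¹ ∈ A

/-- Elements of `N` of prime order `l` modulo `D` fix no `s`-element of `A` outside `Z`. -/
def FreeAt (Z A D N : Subgroup G) (l s : ℕ) : Prop :=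
  ∀ g ∈ N, g ∉ D → g ^ l ∈ D → ∀ c ∈ A, El s c → g * c = c * g → c ∈ Z

/-- If the elements of `N` of prime order modulo `D` act freely on enough primary parts of the
abelian group `A`, then `N / D` is a `t`-group. -/
theorem isPGroup_mod_of_free [Finite G] (Z A D N : Subgroup G)
    (hA : ∀ a ∈ A, ∀ b ∈ A, a * b = b * a) (hDN : D ≤ N)
    (hAD : ∀ a ∈ A, ∀ d ∈ D, d * a = a * d) (hnD : ∀ g ∈ N, Norms g D) (hnA : ∀ g ∈ N, Norms g A)
    (hZ : ∀ g ∈ N, ∀ z ∈ Z, g * z = z * g) {t : ℕ} [Fact t.Prime]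
    (hv : ∃ v ∈ A, El t v ∧ v ∉ Z) (hT : ∀ l, l.Prime → FreeAt Z A D N l t)
    (hL : ∀ l : ℕ, l.Prime → l ≠ t → ∃ s : ℕ, s.Prime ∧ s ≠ t ∧ (∃ v ∈ A, El s v ∧ v ∉ Z) ∧
      FreeAt Z A D N l s ∧ FreeAt Z A D N t s)
    {τ : G} (hτN : τ ∈ N) (hτD : τ ∉ D) (hτt : τ ^ t ∈ D) {g : G} (hg : g ∈ N) :
    ∃ i : ℕ, g ^ t ^ i ∈ D := by
  letI : CommGroup A := { mul_comm := fun a b => Subtype.ext (hA a a.2 b b.2) }
  haveI hn : (D.subgroupOf N).Normal := ⟨fun d hd n => hnD n n.2 d hd⟩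
  let c0 : N →* MulAut A :=
    { toFun := fun n =>
        { toFun := fun a => ⟨(n : G) * a * (n : G)⁻¹, hnA n n.2 a a.2⟩
          invFun := fun a => ⟨(n : G)⁻¹ * a * n, by
            simpa using hnA (n : G)⁻¹ (inv_mem n.2) a a.2⟩
          left_inv := fun a => Subtype.ext (by group)
          right_inv := fun a => Subtype.ext (by group)
          map_mul' := fun a b => Subtype.ext (by simp) }
      map_one' := MulEquiv.ext fun a => Subtype.ext (by simp)
      map_mul' := fun m n => MulEquiv.ext fun a => Subtype.ext (by simp [mul_assoc]) }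
  let ρ : N ⧸ D.subgroupOf N →* MulAut A := QuotientGroup.lift (D.subgroupOf N) c0
    fun d hd => MulEquiv.ext fun a => Subtype.ext (by
      show (d : G) * a * (d : G)⁻¹ = a
      rw [hAD a a.2 d hd, mul_inv_cancel_right])
  have hρ : ∀ (n : N) (a : A), ((ρ (QuotientGroup.mk n) a : A) : G) = n * a * (n : G)⁻¹ :=
    fun n a => rfl
  have hfree : ∀ l s, l.Prime → FreeAt Z A D N l s →
      ∀ f : N ⧸ D.subgroupOf N, orderOf f = l → Free ρ (Z.subgroupOf A) f s := by
    intro l s hl h f hf w hw hfw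
    induction f using QuotientGroup.induction_on with
    | _ n =>
      refine h n n.2 (fun hn' => hl.ne_one ?_) ?_ w w.2 (hw.map A.subtype) ?_
      · rw [← hf, orderOf_eq_one_iff]
        exact (QuotientGroup.eq_one_iff n).2 hn'
      · have h1 := pow_orderOf_eq_one (QuotientGroup.mk n : N ⧸ D.subgroupOf N)
        rw [hf, ← QuotientGroup.mk_pow] at h1
        exact mem_subgroupOf.1 ((QuotientGroup.eq_one_iff (N := D.subgroupOf N) _).1 h1)
      · have h1 := congrArg Subtype.val hfw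
        rw [hρ] at h1
        exact mul_inv_eq_iff_eq_mul.1 h1
  have hel : ∀ {s : ℕ} {v : G} (hv : v ∈ A), El s v → El s (⟨v, hv⟩ : A) := fun hv h =>
    h.imp fun k hk => Subtype.ext (by simpa using hk)
  have key : IsPGroup t (N ⧸ D.subgroupOf N) := by
    refine isPGroup_of_free ρ (Z.subgroupOf A) (fun f z hz => ?_) ?_ ?_ ?_
      (τ := QuotientGroup.mk ⟨τ, hτN⟩) ?_
    · induction f using QuotientGroup.induction_on with
      | _ n =>
        refine Subtype.ext ?_
        rw [hρ, hZ n n.2 z hz, mul_inv_cancel_right]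
    · obtain ⟨v, hvA, hvt, hvZ⟩ := hv
      exact ⟨⟨v, hvA⟩, hel hvA hvt, hvZ⟩
    · exact fun f hf => hfree _ t hf (hT _ hf) f rfl
    · intro l hl hlt
      obtain ⟨s, hs, hst, ⟨v, hvA, hvs, hvZ⟩, h1, h2⟩ := hL l hl hlt
      refine ⟨s, hs, hst, ⟨⟨v, hvA⟩, hel hvA hvs, hvZ⟩, fun f hf => ?_⟩
      rcases hf with hf | hf
      · exact hfree l s hl h1 f hf
      · exact hfree t s Fact.out h2 f hf
    · refine orderOf_eq_prime ?_ fun h => hτD (mem_subgroupOf.1
      ((QuotientGroup.eq_one_iff (N := D.subgroupOf N) _).1 h))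
      rw [← QuotientGroup.mk_pow]
      exact (QuotientGroup.eq_one_iff _).2 (mem_subgroupOf.2 hτt)
  obtain ⟨i, hi⟩ := key (QuotientGroup.mk ⟨g, hg⟩)
  rw [← QuotientGroup.mk_pow] at hi
  exact ⟨i, mem_subgroupOf.1 ((QuotientGroup.eq_one_iff (N := D.subgroupOf N) _).1 hi)⟩

end Cfsg.Agent.Lib.ThreeSizes
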