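import Cfsg.Agent.Lib.ThreeSizes.Act
import Cfsg.Agent.Lib.ClassSizeTop.Basic
import Cfsg.Agent.Lib.Burnside.Paqb

/-!
# Three class sizes: basic facts
-/

set_option autoImplicit false

namespace Cfsg.Agent.Lib.ThreeSizes

open Subgroup ClassSizeTop

variable {G : Type*} [Group G]

/-- The centralizer of an element. -/
abbrev cen (x : G) : Subgroup G := centralizer ({x} : Set G)

theorem El.pow {M : Type*} [Monoid M] {s : ℕ} {v : M} (h : El s v) (n : ℕ) : El s (v ^ n) :=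
  h.imp fun k hk => by rw [← pow_mul, mul_comm, pow_mul, hk, one_pow]

theorem El.conj {s : ℕ} {v : G} (h : El s v) (g : G) : El s (g * v * g⁻¹) :=
  h.map (MulAut.conj g).toMonoidHom

theorem El.orderOf_dvd {s : ℕ} {v : G} (h : El s v) : ∃ k, orderOf v ∣ s ^ k :=
  h.imp fun _ hk => orderOf_dvd_of_pow_eq_one hk

theorem El.coprime {r s : ℕ} {u v : G} (hr : r.Prime) (hs : s.Prime) (hrs : r ≠ s) (hu : El r u)
    (hv : El s v) : (orderOf u).Coprime (orderOf v) := by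
  obtain ⟨i, hi⟩ := hu.orderOf_dvd
  obtain ⟨j, hj⟩ := hv.orderOf_dvd
  exact ((((Nat.coprime_primes hr hs).2 hrs).pow i j).coprime_dvd_left hi).coprime_dvd_right hj

theorem El.eq_one {r s : ℕ} {u : G} (hr : r.Prime) (hs : s.Prime) (hrs : r ≠ s) (hu : El r u)
    (hv : El s u) : u = 1 :=
  orderOf_eq_one_iff.1 (Nat.eq_one_of_dvd_coprimes (hu.coprime hr hs hrs hv) dvd_rfl dvd_rfl)

theorem cen_mul {r s : ℕ} {u v : G} (hr : r.Prime) (hs : s.Prime) (hrs : r ≠ s) (hu : El r u)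
    (hv : El s v) (h : v ∈ cen u) : cen (u * v) = cen u ⊓ cen v :=
  cent_mul_of_coprime (mem_cent.1 h).symm (hu.coprime hr hs hrs hv)

theorem mem_cen_comm {u v : G} (h : v ∈ cen u) : u ∈ cen v := mem_cent.2 (mem_cent.1 h).symm

theorem center_le_cen (x : G) : center G ≤ cen x :=
  fun z hz => mem_cent.2 (mem_center_iff.1 hz x).symm

theorem zpowers_le_cen (x : G) : zpowers x ≤ cen x := zpowers_le.2 (mem_cent.2 rfl)

theorem mem_cen_conj {g x a : G} (h : a ∈ cen x) : g * a * g⁻¹ ∈ cen (g * x * g⁻¹) := by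
  show g * a * g⁻¹ ∈ centralizer ({g * x * g⁻¹} : Set G)
  rw [cent_conj]
  exact ⟨a, h, rfl⟩

variable [Finite G]

theorem exists_el_part (r : ℕ) [Fact r.Prime] (x : G) :
    ∃ u y : G, x = u * y ∧ Commute u y ∧ El r u ∧ (orderOf y).Coprime r ∧
      u ∈ zpowers x ∧ y ∈ zpowers x := by
  obtain ⟨u, y, h1, h2, ⟨k, hk⟩, h3, h4, h5⟩ := ClassSize.exists_pParts (p := r) x
  exact ⟨u, y, h1, h2, ⟨k, hk ▸ pow_orderOf_eq_one u⟩, h3, h4, h5⟩

/-- An element lies in a subgroup containing all its primary parts. -/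
theorem mem_of_parts {H : Subgroup G} {x : G}
    (h : ∀ p : ℕ, p.Prime → ∀ u ∈ zpowers x, El p u → u ∈ H) : x ∈ H := by
  classical
  have hex : ∃ d : ℕ, 0 < d ∧ x ^ d ∈ H :=
    ⟨orderOf x, orderOf_pos x, by rw [pow_orderOf_eq_one]; exact one_mem H⟩
  obtain ⟨hd0, hdH⟩ := Nat.find_spec hex
  rcases Nat.lt_or_ge 1 (Nat.find hex) with hd | hd
  · exfalso
    obtain ⟨p, hp, hpd⟩ := Nat.exists_prime_and_dvd hd.ne'
    haveI := Fact.mk hp
    obtain ⟨u, y, hxy, hc, hu, hy, hux, hyx⟩ := exists_el_part p x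
    have hy1 : x ^ orderOf y ∈ H := by
      rw [hxy, hc.mul_pow, pow_orderOf_eq_one, mul_one]
      exact pow_mem (h p hp u hux hu) _
    have hg : x ^ Nat.gcd (Nat.find hex) (orderOf y) ∈ H := by
      rw [← zpow_natCast, Nat.gcd_eq_gcd_ab, zpow_add, zpow_mul, zpow_mul, zpow_natCast,
        zpow_natCast]
      exact mul_mem (zpow_mem hdH _) (zpow_mem hy1 _)
    have h1 := Nat.find_min' hex ⟨Nat.gcd_pos_of_pos_left _ hd0, hg⟩
    have h2 : Nat.gcd (Nat.find hex) (orderOf y) ∣ Nat.find hex := Nat.gcd_dvd_left _ _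
    have h3 : Nat.gcd (Nat.find hex) (orderOf y) = Nat.find hex :=
      le_antisymm (Nat.le_of_dvd hd0 h2) h1
    exact hp.not_dvd_one (hy ▸ Nat.dvd_gcd ((hpd.trans (by rw [← h3])).trans (Nat.gcd_dvd_right _ _))
      dvd_rfl)
  · simpa [show Nat.find hex = 1 by omega] using hdH

theorem exists_noncentral_part {x : G} (hx : x ∉ center G) :
    ∃ p : ℕ, p.Prime ∧ ∃ u ∈ zpowers x, El p u ∧ u ∉ center G := by
  by_contra h
  push Not at h
  exact hx (mem_of_parts fun p hp u hu hue => h p hp u hu hue)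

theorem cen_le_of_mem_zpowers {x u : G} (h : u ∈ zpowers x) : cen x ≤ cen u :=
  cent_le_cent_of_mem_zpowers h

theorem eq_of_le_of_idx {x y : G} (h : cen x ≤ cen y) (hi : idx x = idx y) : cen x = cen y :=
  eq_of_le_of_index_le h hi.le

theorem exists_el_of_dvd {A : Subgroup G} {r : ℕ} [Fact r.Prime]
    (h : r ∣ (center G).relIndex A) : ∃ v ∈ A, El r v ∧ v ∉ center G := by
  by_contra h'
  push Not at h'
  exact not_dvd_relIndex_center (fun w hw ⟨k, hk⟩ =>
    h' w hw ⟨k, hk ▸ pow_orderOf_eq_one w⟩) h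

theorem dvd_relIndex_of_el {A : Subgroup G} {r : ℕ} (hr : r.Prime) {v : G} (hvA : v ∈ A)
    (hv : El r v) (hvZ : v ∉ center G) : r ∣ (center G).relIndex A := by
  by_contra hd
  have hmem := pow_index_mem ((center G).subgroupOf A) ⟨v, hvA⟩
  exact hvZ (hv.mem_of_pow_mem ((hr.coprime_iff_not_dvd.2 hd).symm) (mem_subgroupOf.1 hmem))

/-- The order of the centralizer modulo the centre. -/
noncomputable def kk (x : G) : ℕ := (center G).relIndex (cen x)

theorem kk_mul (x : G) : kk x * idx x = (center G).index :=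
  relIndex_mul_index (center_le_cen x)

theorem solvable_of_quotient (h : Group.IsSolvable (G ⧸ center G)) : Group.IsSolvable G := by
  haveI := h
  haveI : Group.IsSolvable (center G) :=
    Group.isSolvable_of_comm fun a b => Subtype.ext (mem_center_iff.1 b.2 a)
  exact Group.isSolvable_of_ker_le_range (center G).subtype (QuotientGroup.mk' (center G))
    (by rw [QuotientGroup.ker_mk', Subgroup.range_subtype])

theorem isSolvable_of_two_primes {p q : ℕ} (hp : p.Prime) (hq : q.Prime)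
    (h : ∀ r : ℕ, r.Prime → r ∣ (center G).index → r = p ∨ r = q) : Group.IsSolvable G := by
  refine solvable_of_quotient ?_
  have hi : 0 < Nat.card (G ⧸ center G) := Nat.card_pos
  obtain ⟨a, m, hm, hma⟩ := Nat.exists_eq_pow_mul_and_not_dvd hi.ne' p hp.ne_one
  have hm0 : m ≠ 0 := fun h0 => hm (h0 ▸ dvd_zero p)
  have hmq := Nat.eq_prime_pow_of_unique_prime_dvd (p := q) hm0 fun {r} hr hrd =>
    (h r hr (by rw [index_eq_card, hma]; exact hrd.mul_left _)).resolve_left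
      fun e => hm (e ▸ hrd)
  exact Burnside.isSolvable_of_card_eq_prime_pow_mul hp hq (hma.trans (by rw [← hmq]))

theorem mem_normalizer_of_norms {g : G} {A : Subgroup G} (h : Norms g A) :
    g ∈ normalizer (A : Set G) := by
  have hle : A.map (MulAut.conj g).toMonoidHom ≤ A := by
    rintro _ ⟨a, ha, rfl⟩
    exact h a ha
  have heq : A.map (MulAut.conj g).toMonoidHom = A :=
    eq_of_le_of_card_ge hle (card_map_of_injective (MulAut.conj g).injective).ge
  rw [mem_normalizer_iff]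
  refine fun a => ⟨h a, fun ha => ?_⟩
  rw [← heq] at ha
  obtain ⟨b, hb, hba⟩ := ha
  exact (MulAut.conj g).injective hba ▸ hb

theorem norms_of_mem_normalizer {g : G} {A : Subgroup G} (h : g ∈ normalizer (A : Set G)) :
    Norms g A := fun a ha => (mem_normalizer_iff.1 h a).1 ha

/-- A step into `D` along the powers of an `r`-element. -/
theorem exists_step {D : Subgroup G} {r : ℕ} {g : G} (hg : El r g) (hgD : g ∉ D) :
    ∃ i : ℕ, g ^ r ^ i ∉ D ∧ (g ^ r ^ i) ^ r ∈ D := by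
  classical
  have hex : ∃ i, g ^ r ^ i ∈ D := hg.imp fun k hk => by rw [hk]; exact one_mem D
  have hspec := Nat.find_spec hex
  rcases Nat.eq_zero_or_pos (Nat.find hex) with h0 | hpos
  · rw [h0, pow_zero, pow_one] at hspec
    exact absurd hspec hgD
  · refine ⟨Nat.find hex - 1, Nat.find_min hex (by omega), ?_⟩
    rw [← pow_mul, ← pow_succ, show Nat.find hex - 1 + 1 = Nat.find hex by omega]
    exact hspec

/-- A normalizing `r`-element outside `D` when `r` divides the index. -/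
theorem exists_normalizing {H D Z : Subgroup G} (hDH : D ≤ H)
    (hZ : ∀ g ∈ H, ∀ z ∈ Z, g * z = z * g) {r : ℕ} [hr : Fact r.Prime] (hd : r ∣ D.relIndex H)
    {c : G} (hcD : c ∈ D) (hc : El r c) (hcZ : c ∉ Z)
    (huniq : ∀ x ∈ D, El r x → x ∉ Z → H ⊓ cen x = D) :
    ∃ g ∈ H, El r g ∧ g ∉ D ∧ g ∈ normalizer (D : Set G) := by
  classical
  have hcp : IsPGroup r (zpowers (⟨c, hcD⟩ : D)) := by
    rintro ⟨x, hx⟩
    obtain ⟨j, rfl⟩ := mem_zpowers_iff.1 hx
    obtain ⟨k, hk⟩ := hc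
    refine ⟨k, Subtype.ext (Subtype.ext ?_)⟩
    show (c ^ j) ^ r ^ k = 1
    rw [← zpow_natCast, ← zpow_mul, mul_comm, zpow_mul, zpow_natCast, hk, one_zpow]
  obtain ⟨R, hR⟩ := hcp.exists_le_sylow
  set P := (R : Subgroup D).map D.subtype with hP
  have hPD : P ≤ D := map_subtype_le _
  have hPp : IsPGroup r P := R.2.map _
  obtain ⟨S, hS⟩ := (hPp.comap_subtype (K := H)).exists_le_sylow
  have hlt : P.subgroupOf H < (S : Subgroup H) := by
    refine lt_of_le_of_ne hS fun heq => S.not_dvd_index' FiniteIndex.index_ne_zero ?_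
    rw [← heq]
    exact hd.trans (relIndex_dvd_of_le_left H hPD)
  haveI : Group.IsNilpotent (S : Subgroup H) := S.2.isNilpotent
  have hne : ((P.subgroupOf H).subgroupOf (S : Subgroup H)) < ⊤ := by
    rw [lt_top_iff_ne_top, Ne, subgroupOf_eq_top]
    exact fun h => hlt.ne (le_antisymm hS h)
  obtain ⟨g, hgn, hgP⟩ := SetLike.exists_of_lt
    (Group.normalizerCondition_of_isNilpotent (G := (S : Subgroup H)) _ hne)
  set x : G := (((g : (S : Subgroup H)) : H) : G) with hxdef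
  have hxn : ∀ b ∈ P, x * b * x⁻¹ ∈ P := by
    intro b hb
    have hbH : b ∈ H := hDH (hPD hb)
    have hbS : (⟨b, hbH⟩ : H) ∈ (S : Subgroup H) := hS (mem_subgroupOf.2 hb)
    exact mem_subgroupOf.1 (mem_subgroupOf.1 ((mem_normalizer_iff.1 hgn ⟨⟨b, hbH⟩, hbS⟩).1
      (mem_subgroupOf.2 (mem_subgroupOf.2 hb))))
  have hxe : El r x := by
    obtain ⟨k, hk⟩ := S.2 g
    exact ⟨k, by
      have := congrArg (fun y : (S : Subgroup H) => ((y : H) : G)) hk
      simpa using this⟩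
  have hxP : x ∉ P := fun h => hgP (mem_subgroupOf.2 (mem_subgroupOf.2 h))
  have hxD : x ∉ D := by
    intro hxD
    -- the join of `P` and `x` is an `r`-subgroup of `D`
    let T : Subgroup D := ((S : Subgroup H).map H.subtype).subgroupOf D
    have hT : IsPGroup r T := (S.2.map _).comap_subtype
    have hRT : (R : Subgroup D) ≤ T := by
      intro b hb
      have hbP : (b : G) ∈ P := ⟨b, hb, rfl⟩
      exact mem_subgroupOf.2 ⟨⟨b, hDH b.2⟩, hS (mem_subgroupOf.2 hbP), rfl⟩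
    have hTR := R.3 hT hRT
    refine hxP ⟨⟨x, hxD⟩, ?_, rfl⟩
    rw [← hTR]
    exact mem_subgroupOf.2 ⟨(g : H), g.2, rfl⟩
  refine ⟨x, (g : H).2, hxe, hxD, mem_normalizer_of_norms fun b hb => ?_⟩
  have hcP : c ∈ P := ⟨⟨c, hcD⟩, hR (mem_zpowers _), rfl⟩
  have hc'Z : x * c * x⁻¹ ∉ Z := fun h => hcZ (by
    have h1 := hZ x⁻¹ (inv_mem (g : H).2) _ h
    rw [show c = x⁻¹ * (x * c * x⁻¹) * x by group, h1]
    simpa [mul_assoc] using h)
  rw [← huniq c hcD hc hcZ] at hb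
  rw [← huniq _ (hPD (hxn c hcP)) (hc.conj x) hc'Z]
  exact ⟨H.mul_mem (H.mul_mem (g : H).2 hb.1) (H.inv_mem (g : H).2), mem_cen_conj hb.2⟩

/-- Two primes cannot both divide the index of a rigid subgroup. -/
theorem false_of_two_nonfull {H D Z : Subgroup G} (hDH : D ≤ H)
    (hZ : ∀ g ∈ H, ∀ z ∈ Z, g * z = z * g) {t s : ℕ} [Fact t.Prime] [Fact s.Prime] (hts : t ≠ s)
    {ct cs : G} (htD : ct ∈ D) (ht : El t ct) (htZ : ct ∉ Z) (hsD : cs ∈ D) (hs : El s cs)
    (hsZ : cs ∉ Z) (hut : ∀ x ∈ D, El t x → x ∉ Z → H ⊓ cen x = D)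
    (hus : ∀ x ∈ D, El s x → x ∉ Z → H ⊓ cen x = D)
    (hdt : t ∣ D.relIndex H) (hds : s ∣ D.relIndex H) : False := by
  obtain ⟨gt, hgtH, hgt, hgtD, hgtN⟩ := exists_normalizing hDH hZ hdt htD ht htZ hut
  obtain ⟨gs, hgsH, hgs, hgsD, hgsN⟩ := exists_normalizing hDH hZ hds hsD hs hsZ hus
  set N := H ⊓ normalizer (D : Set G) with hN
  set A := D ⊓ centralizer (D : Set G) with hA
  obtain ⟨i, hi1, hi2⟩ := exists_step hgt hgtD
  have hfree : ∀ l r, (∀ x ∈ D, El r x → x ∉ Z → H ⊓ cen x = D) → FreeAt Z A D N l r := by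
    intro l r hu g hg hgD _ c hc hce hgc
    by_contra hcZ
    exact hgD ((hu c hc.1 hce hcZ).le ⟨hg.1, mem_cent.2 hgc⟩)
  have hmemA : ∀ r c, c ∈ D → (∀ x ∈ D, El r x → x ∉ Z → H ⊓ cen x = D) → El r c → c ∉ Z → c ∈ A :=
    fun r c hcD hu hc hcZ => mem_inf.2 ⟨hcD, mem_centralizer_iff.2 fun d hd =>
      mem_cent.1 (mem_inf.1 ((hu c hcD hc hcZ).ge hd)).2⟩
  obtain ⟨k, hk⟩ := isPGroup_mod_of_free Z A D N
    (fun a ha b hb => mem_centralizer_iff.1 hb.2 a ha.1)
    (le_inf hDH le_normalizer)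
    (fun a ha d hd => (mem_centralizer_iff.1 ha.2 d hd))
    (fun g hg => norms_of_mem_normalizer hg.2)
    (fun g hg a ha => by
      refine ⟨norms_of_mem_normalizer hg.2 a ha.1, mem_centralizer_iff.2 fun d hd => ?_⟩
      have hd' : g⁻¹ * d * g ∈ D := by
        simpa using norms_of_mem_normalizer (inv_mem hg.2) d hd
      calc d * (g * a * g⁻¹) = g * ((g⁻¹ * d * g) * a) * g⁻¹ := by group
        _ = g * (a * (g⁻¹ * d * g)) * g⁻¹ := by rw [mem_centralizer_iff.1 ha.2 _ hd']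
        _ = g * a * g⁻¹ * d := by group)
    (fun g hg => hZ g hg.1)
    ⟨ct, hmemA t ct htD hut ht htZ, ht, htZ⟩ (fun l _ => hfree l t hut)
    (fun l _ _ => ⟨s, Fact.out, hts.symm, ⟨cs, hmemA s cs hsD hus hs hsZ, hs, hsZ⟩,
      hfree l s hus, hfree t s hus⟩)
    (τ := gt ^ t ^ i) (pow_mem (mem_inf.2 ⟨hgtH, hgtN⟩) _) hi1 hi2 (g := gs)
      (mem_inf.2 ⟨hgsH, hgsN⟩)
  exact hgsD (hgs.mem_of_pow_mem (((Nat.coprime_primes Fact.out Fact.out).2 hts).pow_left k) hk)

end Cfsg.Agent.Lib.ThreeSizes
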