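import Cfsg.Agent.Lib.ThreeSizes.Common

/-!
# Three class sizes, neither dividing the other
-/

set_option autoImplicit false

namespace Cfsg.Agent.Lib.ThreeSizes

open Subgroup ClassSizeTop
open scoped IsMulCommutative

universe u

variable {G : Type u} [Group G] [Finite G]

/-- Non-central class sizes divide each other only when equal. -/
def NoDiv (G : Type u) [Group G] : Prop :=
  ∀ x y : G, x ∉ center G → y ∉ center G → idx x ∣ idx y → idx x = idx y

/-- The centralizer of `x` involves two primes modulo the centre. -/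
def Rigid (x : G) : Prop :=
  x ∉ center G ∧ ∃ t s : ℕ, t.Prime ∧ s.Prime ∧ t ≠ s ∧ t ∣ kk x ∧ s ∣ kk x

theorem cen_eq_of_le (hN : NoDiv G) {x y : G} (hx : x ∉ center G) (hy : y ∉ center G)
    (h : cen x ≤ cen y) : cen x = cen y :=
  eq_of_le_of_idx h (hN y x hy hx (index_dvd_of_le h)).symm

theorem cen_eq_of_commute (hN : NoDiv G) {r s : ℕ} {u v : G} (hr : r.Prime) (hs : s.Prime)
    (hrs : r ≠ s) (hu : El r u) (hv : El s v) (h : v ∈ cen u) (hu' : u ∉ center G)
    (hv' : v ∉ center G) : cen u = cen v := by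
  have hm := cen_mul hr hs hrs hu hv h
  have huv := mul_not_mem_center hr hs hrs hu hv h hu'
  exact (cen_eq_of_le hN huv hu' (hm.le.trans inf_le_left)).symm.trans
    (cen_eq_of_le hN huv hv' (hm.le.trans inf_le_right))

theorem exists_part_eq (hN : NoDiv G) {x : G} (hx : x ∉ center G) :
    ∃ o : ℕ, o.Prime ∧ ∃ x0 ∈ zpowers x, El o x0 ∧ x0 ∉ center G ∧ cen x = cen x0 := by
  obtain ⟨o, ho, x0, hx0, he, hc⟩ := exists_noncentral_part hx
  exact ⟨o, ho, x0, hx0, he, hc, cen_eq_of_le hN hx hc (cen_le_of_mem_zpowers hx0)⟩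

theorem Rigid.cen_eq (hN : NoDiv G) {x : G} (hR : Rigid x) {c : G} (hc : c ∈ cen x)
    (hcZ : c ∉ center G) : cen c = cen x := by
  obtain ⟨hxZ, t1, t2, ht1, ht2, hne, hd1, hd2⟩ := hR
  obtain ⟨o, ho, x0, -, hx0, hx0Z, hC⟩ := exists_part_eq hN hxZ
  obtain ⟨t, ht, hto, htd⟩ : ∃ t : ℕ, t.Prime ∧ t ≠ o ∧ t ∣ kk x := by
    by_cases h : t1 = o
    · exact ⟨t2, ht2, fun h2 => hne (h.trans h2.symm), hd2⟩
    · exact ⟨t1, ht1, h, hd1⟩
  haveI := Fact.mk ht
  obtain ⟨u, huC, hu, huZ⟩ := exists_el_of_dvd htd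
  have hu0 : cen u = cen x :=
    ((cen_eq_of_commute hN ho ht (Ne.symm hto) hx0 hu (hC ▸ huC) hx0Z huZ).symm.trans hC.symm)
  have hprim : ∀ (q : ℕ), q.Prime → ∀ d ∈ cen x, El q d → d ∉ center G → cen d = cen x := by
    intro q hq d hd hde hdZ
    by_cases hqo : q = o
    · exact (cen_eq_of_commute hN ht hq (fun e => hto (e.trans hqo)) hu hde (hu0.symm ▸ hd) huZ
        hdZ).symm.trans hu0
    · exact (cen_eq_of_commute hN ho hq (Ne.symm hqo) hx0 hde (hC ▸ hd) hx0Z hdZ).symm.trans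
        hC.symm
  obtain ⟨q, hq, c0, hc0, hc0e, hc0Z, hC'⟩ := exists_part_eq hN hcZ
  exact hC'.trans (hprim q hq c0 (zpowers_le.2 hc hc0) hc0e hc0Z)

theorem Rigid.comm (hN : NoDiv G) {x : G} (hR : Rigid x) :
    ∀ a ∈ cen x, ∀ b ∈ cen x, a * b = b * a := by
  intro a ha b hb
  by_cases haZ : a ∈ center G
  · exact (mem_center_iff.1 haZ b).symm
  · exact (mem_cent.1 ((hR.cen_eq hN ha haZ).ge hb)).symm

theorem Rigid.of_idx_eq {x y : G} (hR : Rigid x) (hy : y ∉ center G) (h : idx x = idx y) :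
    Rigid y := ⟨hy, kk_eq_of_idx_eq h ▸ hR.2⟩

theorem Rigid.uniq (hN : NoDiv G) {x : G} (hR : Rigid x) (r : ℕ) :
    ∀ c ∈ cen x, El r c → c ∉ center G → (⊤ : Subgroup G) ⊓ cen c = cen x :=
  fun _ hc _ hcZ => by rw [top_inf_eq, hR.cen_eq hN hc hcZ]

/-- At most one prime divides both the order and the index of a rigid centralizer. -/
theorem Rigid.nonfull_unique (hN : NoDiv G) {x : G} (hR : Rigid x) {t s : ℕ} (ht : t.Prime)
    (hs : s.Prime) (htk : t ∣ kk x) (hti : t ∣ idx x) (hsk : s ∣ kk x) (hsi : s ∣ idx x) :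
    t = s := by
  by_contra hne
  haveI := Fact.mk ht
  haveI := Fact.mk hs
  obtain ⟨ct, htD, hct, hctZ⟩ := exists_el_of_dvd htk
  obtain ⟨cs, hsD, hcs, hcsZ⟩ := exists_el_of_dvd hsk
  exact false_of_two_nonfull (H := ⊤) (Z := center G) le_top
    (fun g _ z hz => mem_center_iff.1 hz g) hne htD hct hctZ hsD hcs hcsZ (hR.uniq hN t)
    (hR.uniq hN s) (by rwa [relIndex_top_right]) (by rwa [relIndex_top_right])

/-- Rigid elements with equal class sizes have conjugate centralizers. -/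
theorem Rigid.exists_conj (hN : NoDiv G) {x y : G} (hR : Rigid x) (hy : y ∉ center G)
    (h : idx x = idx y) : ∃ g : G, cen (g * y * g⁻¹) = cen x := by
  obtain ⟨t, ht, htk, hti⟩ : ∃ t : ℕ, t.Prime ∧ t ∣ kk x ∧ ¬ t ∣ idx x := by
    obtain ⟨-, t1, t2, ht1, ht2, hne, hd1, hd2⟩ := id hR
    by_cases h1 : t1 ∣ idx x
    · exact ⟨t2, ht2, hd2, fun h2 => hne (hR.nonfull_unique hN ht1 ht2 hd1 h1 hd2 h2)⟩
    · exact ⟨t1, ht1, hd1, h1⟩
  haveI := Fact.mk ht
  obtain ⟨c, hcy, hc, hcZ⟩ := exists_el_of_dvd (show t ∣ kk y from kk_eq_of_idx_eq h ▸ htk)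
  obtain ⟨g, hg⟩ := exists_conj_mem hti hc
  exact ⟨g, (cen_conj_congr ((hR.of_idx_eq hy h).cen_eq hN hcy hcZ).symm g).trans
    (hR.cen_eq hN hg (not_mem_center_conj hcZ g))⟩

theorem kk_prime_pow {x : G} (hx : x ∉ center G) (hR : ¬ Rigid x) :
    ∃ p : ℕ, p.Prime ∧ ∀ t : ℕ, t.Prime → t ∣ kk x → t = p := by
  obtain ⟨o, ho, x0, hx0, hx0e, hx0Z⟩ := exists_noncentral_part hx
  refine ⟨o, ho, fun t ht htd => ?_⟩
  by_contra hto
  exact hR ⟨hx, t, o, ht, ho, hto, htd, dvd_relIndex_of_el ho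
    (zpowers_le_cen x hx0) hx0e hx0Z⟩

/-- The mixed case: a rigid size and a pure size. -/
theorem solvable_mixed (hN : NoDiv G) {n M : ℕ} (hs : Sizes G n M) (hnM : n ≠ M) {x y : G}
    (hx : idx x = n) (hy : idx y = M) (hR : Rigid x) (hyZ : y ∉ center G) (hyR : ¬ Rigid y) :
    Group.IsSolvable G := by
  obtain ⟨p, hp, hpu⟩ := kk_prime_pow hyZ hyR
  have hel : ∀ (t : ℕ), t.Prime → t ≠ p → ∀ v : G, El t v → v ∉ center G → idx v = idx x := by
    intro t ht htp v hv hvZ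
    rcases hs v hvZ with h | h
    · rw [h, hx]
    · refine absurd (hpu t ht ?_) htp
      rw [← kk_eq_of_idx_eq (h.trans hy.symm)]
      exact dvd_kk_of_el ht hv hvZ
  have hprimes : ∀ d : ℕ, d.Prime → d ∣ idx x → d ≠ p → d ∣ kk x := by
    intro d hd hdd hdp
    haveI := Fact.mk hd
    obtain ⟨v, hv, hvZ⟩ := exists_el_of_dvd_index (hdd.trans (idx_dvd_index_center x))
    rw [← kk_eq_of_idx_eq (hel d hd hdp v hv hvZ)]
    exact dvd_kk_of_el hd hv hvZ
  have hidx : ∀ (q : ℕ), q.Prime → q ≠ p → ∀ v : G, El q v → ∀ d : ℕ, d.Prime → d ∣ idx v →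
      d ∣ idx x := by
    intro q hq hqp v hv d hd hdd
    by_cases hvZ : v ∈ center G
    · rw [idx_eq_one_iff.2 hvZ] at hdd
      exact absurd hdd hd.not_dvd_one
    · rwa [← hel q hq hqp v hv hvZ]
  by_cases hr : ∃ r : ℕ, r.Prime ∧ r ≠ p ∧ r ∣ idx x
  swap
  · refine solvable_of_ppow hp fun q hq hqp v hv d hd hdd => ?_
    by_contra hdp
    exact hr ⟨d, hd, hdp, hidx q hq hqp v hv d hd hdd⟩
  obtain ⟨r, hr, hrp, hrd⟩ := hr
  have hPR : PR p r (idx x) := by
    intro d hd hdd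
    by_contra hne
    push Not at hne
    exact hne.2 (hR.nonfull_unique hN hd hr (hprimes d hd hdd hne.1) hdd (hprimes r hr hrd hrp) hrd)
  refine solvable_of_big hp hr (fun q hq hqp _ v hv d hd hdd =>
    hPR d hd (hidx q hq hqp v hv d hd hdd)) fun v hv => ?_
  by_cases hvZ : v ∈ center G
  · exact Or.inl hvZ
  haveI := Fact.mk hr
  obtain ⟨R⟩ : Nonempty (Sylow r G) := inferInstance
  obtain ⟨u, -, hu, huZ, hu2⟩ := exists_centralish R ⟨v, hv, hvZ⟩
  have hiu := hel r hr hrp u hu huZ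
  have hRu := hR.of_idx_eq huZ hiu.symm
  obtain ⟨g, hg⟩ := hRu.exists_conj hN hvZ (hiu.trans (hel r hr hrp v hv hvZ).symm)
  exact Big.of_conj (g := g) (big_of_sylow hp (hRu.comm hN) R (le_normalizer_cen hu2)
    (show PR p r (idx u) from hiu ▸ hPR) (hg ▸ mem_cent.2 rfl))

/-- A self-normalizing rigid centralizer gives solvability. -/
theorem solvable_of_selfNormalizing (hN : NoDiv G) {n M : ℕ} (hs : Sizes G n M) {x y : G}
    (hx : idx x = n) (hy : idx y = M) (hR : Rigid x) (hRy : Rigid y)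
    (hself : ∀ g ∈ normalizer (cen x : Set G), g ∈ cen x) : Group.IsSolvable G := by
  haveI : IsMulCommutative (cen x) :=
    ⟨⟨fun a b => Subtype.ext (hR.comm hN _ a.2 _ b.2)⟩⟩
  let V : G →* cen x := (MonoidHom.id (cen x)).transfer
  have hfull : ∀ t : ℕ, t.Prime → t ∣ kk x → ¬ t ∣ idx x := by
    intro t ht htk hti
    haveI := Fact.mk ht
    obtain ⟨c, hcD, hc, hcZ⟩ := exists_el_of_dvd htk
    obtain ⟨g, -, -, hgD, hgN⟩ := exists_normalizing (H := ⊤) (Z := center G) le_top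
      (fun g _ z hz => mem_center_iff.1 hz g) (by rwa [relIndex_top_right]) hcD hc hcZ
      (hR.uniq hN t)
    exact hgD (hself g hgN)
  have hker : ∀ c ∈ cen x, V c = 1 → c ∈ center G := by
    intro c hc hV
    have key : ∀ (k : ℕ) (g₀ : G), g₀⁻¹ * c ^ k * g₀ ∈ cen x → g₀⁻¹ * c ^ k * g₀ = c ^ k := by
      intro k g₀ hg
      by_cases hZ : c ^ k ∈ center G
      · rw [mem_center_iff.1 hZ g₀⁻¹, inv_mul_cancel_right]
      · have h1 := hR.cen_eq hN (pow_mem hc k) hZ
        have h2 : cen (g₀⁻¹ * c ^ k * g₀⁻¹⁻¹) = cen x :=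
          hR.cen_eq hN (by rwa [inv_inv]) (not_mem_center_conj hZ _)
        have h3 : g₀⁻¹ ∈ cen x := hself _ (mem_normalizer_of_norms fun a ha =>
          h2 ▸ mem_cen_conj (h1.ge ha))
        rw [hR.comm hN _ h3 _ (pow_mem hc k), inv_mul_cancel_right]
    have h1 : c ^ (cen x).index = 1 := by
      have h2 := MonoidHom.transfer_eq_pow (MonoidHom.id (cen x)) c key
      exact congrArg Subtype.val (h2.symm.trans hV)
    refine mem_of_parts fun t ht u hu hue => ?_
    by_contra huZ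
    suffices hu1 : orderOf u = 1 by
      exact huZ ((orderOf_eq_one_iff.1 hu1) ▸ one_mem _)
    have hd1 : orderOf u ∣ idx x := by
      obtain ⟨j, rfl⟩ := mem_zpowers_iff.1 hu
      refine orderOf_dvd_of_pow_eq_one ?_
      show (c ^ j) ^ (cen x).index = 1
      rw [← zpow_natCast, ← zpow_mul, mul_comm, zpow_mul, zpow_natCast, h1, one_zpow]
    obtain ⟨k, hk⟩ := hue.orderOf_dvd
    refine Nat.eq_one_of_dvd_coprimes ?_ hk hd1
    exact (ht.coprime_iff_not_dvd.2 (hfull t ht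
      (dvd_relIndex_of_el ht (zpowers_le.2 hc hu) hue huZ))).pow_left k
  have hM : ∀ v ∈ V.ker, v ∉ center G → idx v = idx y := by
    intro v hv hvZ
    rcases hs v hvZ with h | h
    · obtain ⟨g, hg⟩ := hR.exists_conj hN hvZ (hx.trans h.symm)
      refine absurd (hker (g * v * g⁻¹) (hg ▸ mem_cent.2 rfl) ?_) (not_mem_center_conj hvZ g)
      rw [map_mul, map_mul, MonoidHom.mem_ker.1 hv, mul_one, map_inv, mul_inv_cancel]
    · rw [h, hy]
  obtain ⟨p, hp, hpu⟩ : ∃ p : ℕ, p.Prime ∧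
      ∀ d : ℕ, d.Prime → d ∣ kk y → d ∣ idx y → d = p := by
    by_cases h : ∃ p : ℕ, p.Prime ∧ p ∣ kk y ∧ p ∣ idx y
    · obtain ⟨p, hp, h1, h2⟩ := h
      exact ⟨p, hp, fun d hd hd1 hd2 => hRy.nonfull_unique hN hd hp hd1 hd2 h1 h2⟩
    · exact ⟨2, Nat.prime_two, fun d hd hd1 hd2 => absurd ⟨d, hd, hd1, hd2⟩ h⟩
  haveI : Group.IsSolvable V.ker := by
    refine solvable_of_ppow hp fun q hq hqp v hv d hd hdd => ?_
    haveI := Fact.mk hd
    have hdvd : d ∣ idx (v : G) := hdd.trans (idx_dvd_of_normal V.ker v)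
    by_cases hvZ : (v : G) ∈ center G
    · rw [idx_eq_one_iff.2 hvZ] at hdvd
      exact absurd hdvd hd.not_dvd_one
    by_contra hdp
    have hdk : d ∣ kk x := by
      obtain ⟨w, hw, hwZ⟩ := exists_el_of_dvd_index (hdvd.trans (idx_dvd_index_center _))
      have h1 := dvd_kk_of_el hd hw hwZ
      rcases hs w hwZ with h | h
      · rwa [kk_eq_of_idx_eq (h.trans hx.symm)] at h1
      · rw [kk_eq_of_idx_eq (h.trans hy.symm)] at h1
        exact absurd (hpu d hd h1 (hM v v.2 hvZ ▸ hdvd)) hdp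
    -- the `d`-elements of the kernel are central
    have hcd : ∀ w : V.ker, El d w → (w : G) ∈ center G := by
      intro w hw
      obtain ⟨g, hg⟩ := exists_conj_mem (hfull d hd hdk) (hw.map V.ker.subtype)
      by_contra hwZ
      refine not_mem_center_conj hwZ g (hker _ hg ?_)
      rw [map_mul, map_mul, MonoidHom.mem_ker.1 w.2, mul_one, map_inv, mul_inv_cancel]
    obtain ⟨Q⟩ : Nonempty (Sylow d V.ker) := inferInstance
    refine Q.not_dvd_index' FiniteIndex.index_ne_zero (hdd.trans (index_dvd_of_le fun w hw => ?_))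
    obtain ⟨k, hk⟩ := Q.2 ⟨w, hw⟩
    refine mem_cent.2 (Subtype.ext ?_)
    exact (mem_center_iff.1 (hcd w ⟨k, congrArg Subtype.val hk⟩) (v : G)).symm
  exact Group.isSolvable_of_ker_le_range V.ker.subtype V (by rw [range_subtype])

/-- The number of non-central conjugates of elements of `C`. -/
theorem card_conjugates_le (C : Subgroup G) (hZ : center G ≤ C) :
    Nat.card {w : G // ∃ g c : G, c ∈ C ∧ c ∉ center G ∧ g * c * g⁻¹ = w} ≤
      (normalizer (C : Set G)).index * (Nat.card C - Nat.card (center G)) := by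
  classical
  have h1 : Nat.card C - Nat.card (center G) = ((C : Set G) \ (center G : Set G)).ncard := by
    rw [Set.ncard_sdiff hZ, ← Nat.card_coe_set_eq, ← Nat.card_coe_set_eq]
    rfl
  rw [h1, ← Nat.card_coe_set_eq, index_eq_card, ← Nat.card_prod]
  let f : (G ⧸ normalizer (C : Set G)) × ((C : Set G) \ (center G : Set G) : Set G) →
      {w : G // ∃ g c : G, c ∈ C ∧ c ∉ center G ∧ g * c * g⁻¹ = w} :=
    fun z => ⟨z.1.out * z.2.1 * z.1.out⁻¹, z.1.out, z.2.1, z.2.2.1, z.2.2.2, rfl⟩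
  refine Nat.card_le_card_of_surjective f ?_
  rintro ⟨w, g, c, hc, hcZ, rfl⟩
  set q : G ⧸ normalizer (C : Set G) := (g : G ⧸ normalizer (C : Set G)) with hq
  have hn : q.out⁻¹ * g ∈ normalizer (C : Set G) := QuotientGroup.eq.1 q.out_eq
  refine ⟨⟨q, ⟨(q.out⁻¹ * g) * c * (q.out⁻¹ * g)⁻¹, (mem_normalizer_iff.1 hn c).1 hc,
    not_mem_center_conj hcZ _⟩⟩, Subtype.ext ?_⟩
  show q.out * ((q.out⁻¹ * g) * c * (q.out⁻¹ * g)⁻¹) * q.out⁻¹ = g * c * g⁻¹
  group

theorem two_mul_index_normalizer {C : Subgroup G}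
    (h : ∃ g ∈ normalizer (C : Set G), g ∉ C) :
    2 * (normalizer (C : Set G)).index * Nat.card C ≤ Nat.card G := by
  obtain ⟨g, hg, hgC⟩ := h
  have h1 : 2 ≤ C.relIndex (normalizer (C : Set G)) := by
    have h0 : C.relIndex (normalizer (C : Set G)) ≠ 1 := fun e => hgC (relIndex_eq_one.1 e hg)
    have h00 : C.relIndex (normalizer (C : Set G)) ≠ 0 := FiniteIndex.index_ne_zero
    omega
  rw [← C.index_mul_card, ← relIndex_mul_index (le_normalizer (H := C))]
  exact Nat.mul_le_mul_right _ (Nat.mul_le_mul_right _ h1)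

/-- Both rigid centralizers cannot be properly normalized. -/
theorem false_of_both_normalized (hN : NoDiv G) {n M : ℕ} (hs : Sizes G n M) {x y : G}
    (hx : idx x = n) (hy : idx y = M) (hR : Rigid x) (hRy : Rigid y)
    (hnx : ∃ g ∈ normalizer (cen x : Set G), g ∉ cen x)
    (hny : ∃ g ∈ normalizer (cen y : Set G), g ∉ cen y) : False := by
  classical
  let P : Subgroup G → G → Prop := fun C w => ∃ g c : G, c ∈ C ∧ c ∉ center G ∧ g * c * g⁻¹ = w
  have hcov : ∀ w : G, w ∉ center G → P (cen x) w ∨ P (cen y) w := by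
    intro w hw
    have hP : ∀ z : G, Rigid z → idx z = idx w → P (cen z) w := by
      intro z hz hzw
      obtain ⟨g, hg⟩ := hz.exists_conj hN hw hzw
      exact ⟨g⁻¹, g * w * g⁻¹, hg ▸ mem_cent.2 rfl, not_mem_center_conj hw g, conj_conj g w⟩
    rcases hs w hw with h | h
    · exact Or.inl (hP x hR (hx.trans h.symm))
    · exact Or.inr (hP y hRy (hy.trans h.symm))
  have h0 : Nat.card G ≤ Nat.card (center G) + (Nat.card {w : G // P (cen x) w} +
      Nat.card {w : G // P (cen y) w}) := by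
    rw [← Nat.card_sum, ← Nat.card_sum]
    refine Nat.card_le_card_of_surjective (Sum.elim (fun z => z.1) (Sum.elim (fun z => z.1)
      (fun z => z.1))) fun w => ?_
    by_cases hw : w ∈ center G
    · exact ⟨Sum.inl ⟨w, hw⟩, rfl⟩
    · rcases hcov w hw with h | h
      · exact ⟨Sum.inr (Sum.inl ⟨w, h⟩), rfl⟩
      · exact ⟨Sum.inr (Sum.inr ⟨w, h⟩), rfl⟩
  have hz : 0 < Nat.card (center G) := Nat.card_pos
  have hix : 0 < (normalizer (cen x : Set G)).index := Nat.pos_of_ne_zero FiniteIndex.index_ne_zero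
  have hiy : 0 < (normalizer (cen y : Set G)).index := Nat.pos_of_ne_zero FiniteIndex.index_ne_zero
  have hx1 := card_conjugates_le (cen x) (center_le_cen x)
  have hy1 := card_conjugates_le (cen y) (center_le_cen y)
  have hx2 := two_mul_index_normalizer hnx
  have hy2 := two_mul_index_normalizer hny
  have hx3 := Nat.sub_add_cancel (card_le_of_le (center_le_cen x))
  have hy3 := Nat.sub_add_cancel (card_le_of_le (center_le_cen y))
  rw [← hx3] at hx2
  rw [← hy3] at hy2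
  nlinarith [Nat.mul_le_mul_right (Nat.card (center G)) hix,
    Nat.mul_le_mul_right (Nat.card (center G)) hiy]

/-- Neither size divides the other. -/
theorem solvable_caseOne {n M : ℕ} (hs : Sizes G n M) (hnM : ¬ n ∣ M) (hMn : ¬ M ∣ n)
    (hn : ∃ x : G, x ∉ center G ∧ idx x = n) (hM : ∃ x : G, x ∉ center G ∧ idx x = M) :
    Group.IsSolvable G := by
  have hN : NoDiv G := by
    intro a b ha hb hab
    rcases hs a ha with h | h <;> rcases hs b hb with h' | h' <;> rw [h, h'] at hab ⊢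
    · exact absurd hab hnM
    · exact absurd hab hMn
  obtain ⟨x, hxZ, hx⟩ := hn
  obtain ⟨y, hyZ, hy⟩ := hM
  have hne : n ≠ M := fun e => hnM (e ▸ dvd_rfl)
  by_cases hRx : Rigid x <;> by_cases hRy : Rigid y
  · by_cases h1 : ∀ g ∈ normalizer (cen x : Set G), g ∈ cen x
    · exact solvable_of_selfNormalizing hN hs hx hy hRx hRy h1
    by_cases h2 : ∀ g ∈ normalizer (cen y : Set G), g ∈ cen y
    · exact solvable_of_selfNormalizing hN (fun z hz => (hs z hz).symm) hy hx hRy hRx h2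
    push Not at h1 h2
    exact (false_of_both_normalized hN hs hx hy hRx hRy h1 h2).elim
  · exact solvable_mixed hN hs hne hx hy hRx hyZ hRy
  · exact solvable_mixed hN (fun z hz => (hs z hz).symm) hne.symm hy hx hRy hxZ hRx
  · obtain ⟨p, hp, hpu⟩ := kk_prime_pow hxZ hRx
    obtain ⟨q, hq, hqu⟩ := kk_prime_pow hyZ hRy
    refine isSolvable_of_cover hp hq fun t v ht hv hvZ => ?_
    have h1 := dvd_kk_of_el ht hv hvZ
    rcases hs v hvZ with h | h
    · exact Or.inl (hpu t ht (kk_eq_of_idx_eq (h.trans hx.symm) ▸ h1))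
    · exact Or.inr (hqu t ht (kk_eq_of_idx_eq (h.trans hy.symm) ▸ h1))

end Cfsg.Agent.Lib.ThreeSizes
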