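import Cfsg.Agent.Lib.ThreeSizes.Common
import Cfsg.Agent.Lib.ClassSizeIto.TwoSizes

/-!
# Three class sizes, one dividing the other
-/

set_option autoImplicit false

namespace Cfsg.Agent.Lib.ThreeSizes

open Subgroup ClassSizeTop

universe u

variable {G : Type u} [Group G] [Finite G]

theorem El.exists_orderOf {r : ℕ} {v : G} (hr : r.Prime) (h : El r v) :
    ∃ i, orderOf v = r ^ i := by
  obtain ⟨k, hk⟩ := h.orderOf_dvd
  obtain ⟨i, -, hi⟩ := (Nat.dvd_prime_pow hr).1 hk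
  exact ⟨i, hi⟩

theorem coprime_mul_el {r s l : ℕ} {u v : G} (hr : r.Prime) (hs : s.Prime) (hl : l.Prime)
    (hrl : r ≠ l) (hsl : s ≠ l) (hu : El r u) (hv : El s v) (hc : v ∈ cen u) {x : G}
    (hx : El l x) : (orderOf (u * v)).Coprime (orderOf x) :=
  ((hu.coprime hr hl hrl hx).mul_left (hv.coprime hs hl hsl hx)).coprime_dvd_left
    (Commute.orderOf_mul_dvd_mul_orderOf (mem_cent.1 hc).symm)

theorem le_cen_comm {K : Subgroup G} {c : G} :
    K ≤ cen c ↔ c ∈ centralizer (K : Set G) :=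
  ⟨fun h => mem_centralizer_iff.2 fun _ hk => mem_cent.1 (h hk),
    fun h _ hk => mem_cent.2 (mem_centralizer_iff.1 h _ hk)⟩

theorem exists_max_part (o : ℕ) [ho : Fact o.Prime] (c : G) :
    ∃ u ∈ zpowers c, El o u ∧ ∀ w ∈ zpowers c, El o w → w ∈ zpowers u := by
  obtain ⟨u, y, hcuy, hcom, hu, hy, huc, hyc⟩ := exists_el_part o c
  refine ⟨u, huc, hu, fun w hw hwe => ?_⟩
  obtain ⟨j, hj⟩ := mem_zpowers_iff.1 hw
  rw [hcuy, hcom.mul_zpow] at hj
  have hwc : Commute ((u ^ j)⁻¹) w := by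
    have hcw : Commute c w := by
      obtain ⟨i, rfl⟩ := mem_zpowers_iff.1 hw
      exact (Commute.refl c).zpow_right i
    obtain ⟨i, rfl⟩ := mem_zpowers_iff.1 huc
    exact ((hcw.zpow_left i).zpow_left j).inv_left
  have hy1 : El o (y ^ j) := by
    obtain ⟨a, ha⟩ := hwe
    obtain ⟨b, hb⟩ := hu
    have he : y ^ j = (u ^ j)⁻¹ * w := by rw [← hj, inv_mul_cancel_left]
    refine ⟨a + b, ?_⟩
    rw [he, hwc.mul_pow, pow_add, pow_mul w, ha, one_pow, mul_one, mul_comm, pow_mul, inv_pow,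
      show (u ^ j) ^ o ^ b = 1 by rw [← zpow_natCast, ← zpow_mul, mul_comm, zpow_mul, zpow_natCast, hb, one_zpow],
      inv_one, one_pow]
  have hyj : y ^ j = 1 := by
    obtain ⟨k, hk⟩ := hy1.orderOf_dvd
    exact orderOf_eq_one_iff.1 (Nat.eq_one_of_dvd_coprimes (hy.pow_right k)
      (orderOf_dvd_of_mem_zpowers (zpow_mem_zpowers y j)) hk)
  rw [hyj, mul_one] at hj
  exact ⟨j, hj⟩

/-- A prime not dividing any class size has central Sylow subgroups. -/
theorem mem_center_of_not_dvd {p : ℕ} [hp : Fact p.Prime] (h : ∀ g : G, ¬ p ∣ idx g) {w : G}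
    (hw : El p w) : w ∈ center G := by
  obtain ⟨P⟩ : Nonempty (Sylow p G) := inferInstance
  have htop : centralizer ((P : Subgroup G) : Set G) = ⊤ := by
    refine ClassSize.eq_top_of_forall_exists_conj_mem _ fun g => ?_
    obtain ⟨Q, hQ⟩ := ClassSize.exists_sylow_le_centralizer (p := p) (x := g) (h g)
    obtain ⟨x, hx⟩ := MulAction.exists_smul_eq G Q P
    refine ⟨x, ?_⟩
    rw [mem_centralizer_iff]
    intro v hv
    rw [← hx, SetLike.mem_coe, Sylow.coe_subgroup_smul,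
      Subgroup.mem_pointwise_smul_iff_inv_smul_mem] at hv
    have hv' : x⁻¹ * v * x ∈ (Q : Subgroup G) := by simpa [MulAut.smul_def, mul_assoc] using hv
    have h5 := mem_cent.1 (hQ hv')
    calc v * (x * g * x⁻¹) = x * (x⁻¹ * v * x * g) * x⁻¹ := by group
      _ = x * g * x⁻¹ * v := by rw [h5]; group
  obtain ⟨g, hg⟩ := exists_conj_mem (P.not_dvd_index' FiniteIndex.index_ne_zero) hw
  by_contra hwZ
  exact not_mem_center_conj hwZ g (centralizer_eq_top_iff_subset.1 htop hg)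

/-- The quotient of the normalizer of a centralizer is a `t`-group. -/
theorem exists_pow_mem {H D : Subgroup G} (hDH : D ≤ H) {t : ℕ} [Fact t.Prime]
    (hv : ∃ v ∈ D ⊓ centralizer (D : Set G), El t v ∧ v ∉ center G)
    (hT : ∀ l : ℕ, l.Prime → FreeAt (center G) (D ⊓ centralizer (D : Set G)) D
      (H ⊓ normalizer (D : Set G)) l t)
    (hL : ∀ l : ℕ, l.Prime → l ≠ t → ∃ s : ℕ, s.Prime ∧ s ≠ t ∧
      (∃ v ∈ D ⊓ centralizer (D : Set G), El s v ∧ v ∉ center G) ∧
      FreeAt (center G) (D ⊓ centralizer (D : Set G)) D (H ⊓ normalizer (D : Set G)) l s ∧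
      FreeAt (center G) (D ⊓ centralizer (D : Set G)) D (H ⊓ normalizer (D : Set G)) t s)
    {τ : G} (hτH : τ ∈ H) (hτN : τ ∈ normalizer (D : Set G)) (hτD : τ ∉ D) (hτ : El t τ) {g : G}
    (hgH : g ∈ H) (hgN : g ∈ normalizer (D : Set G)) : ∃ i : ℕ, g ^ t ^ i ∈ D := by
  obtain ⟨i, hi1, hi2⟩ := exists_step hτ hτD
  exact isPGroup_mod_of_free (center G) (D ⊓ centralizer (D : Set G)) D
    (H ⊓ normalizer (D : Set G))
    (fun a ha b hb => mem_centralizer_iff.1 hb.2 a ha.1) (le_inf hDH le_normalizer)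
    (fun a ha d hd => (mem_centralizer_iff.1 ha.2 d hd))
    (fun x hx => norms_of_mem_normalizer hx.2)
    (fun x hx a ha => by
      refine ⟨norms_of_mem_normalizer hx.2 a ha.1, mem_centralizer_iff.2 fun d hd => ?_⟩
      have hd' : x⁻¹ * d * x ∈ D := by
        simpa using norms_of_mem_normalizer (inv_mem hx.2) d hd
      calc d * (x * a * x⁻¹) = x * ((x⁻¹ * d * x) * a) * x⁻¹ := by group
        _ = x * (a * (x⁻¹ * d * x)) * x⁻¹ := by rw [mem_centralizer_iff.1 ha.2 _ hd']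
        _ = x * a * x⁻¹ * d := by group)
    (fun x _ z hz => mem_center_iff.1 hz x) hv hT hL
    (pow_mem (mem_inf.2 ⟨hτH, hτN⟩) _) hi1 hi2 (mem_inf.2 ⟨hgH, hgN⟩)

/-- The non-central class sizes are `n` and `n * m`, and three primes occur. -/
structure Chain (G : Type u) [Group G] (n m : ℕ) : Prop where
  hn : 1 < n
  hm : 1 < m
  sizes : Sizes G n (n * m)
  three : ∀ p q : ℕ, p.Prime → q.Prime → ∃ t : ℕ, t.Prime ∧ t ≠ p ∧ t ≠ q ∧
    ∃ v : G, El t v ∧ v ∉ center G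

variable {n m : ℕ} (h : Chain G n m)
include h

omit [Finite G] in
theorem Chain.lt : n < n * m := lt_mul_of_one_lt_right (zero_lt_one.trans h.hn) h.hm

theorem Chain.not_mem {x : G} (hx : idx x = n ∨ idx x = n * m) : x ∉ center G := fun hc => by
  have h1 := h.hn
  have h2 := h.lt
  have h3 := idx_eq_one_iff.2 hc
  omega

theorem Chain.cen_eq_of_big {x y : G} (hx : idx x = n) (hy : y ∉ center G) (hle : cen x ≤ cen y) :
    cen x = cen y := by
  refine eq_of_le_of_idx hle ?_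
  have h1 : idx y ∣ idx x := index_dvd_of_le hle
  rcases h.sizes y hy with e | e
  · rw [hx, e]
  · rw [hx, e] at h1
    exact absurd (Nat.le_of_dvd (zero_lt_one.trans h.hn) h1) (not_le.2 h.lt)

theorem Chain.le_cen_of_coprime {x d : G} (hx : idx x = n * m) (hd : d ∈ cen x)
    (hco : (orderOf x).Coprime (orderOf d)) : cen x ≤ cen d := by
  have hc : cen (x * d) = cen x ⊓ cen d := cent_mul_of_coprime (mem_cent.1 hd).symm hco
  have hle : cen (x * d) ≤ cen x := hc.le.trans inf_le_left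
  have hxd : x * d ∉ center G := fun hz => h.not_mem (Or.inr hx) (mem_center_iff.2 fun g =>
    mem_cent.1 (hle (mem_cent.2 (mem_center_iff.1 hz g))))
  have he : cen (x * d) = cen x := by
    refine eq_of_le_of_idx hle ?_
    have h1 : idx x ∣ idx (x * d) := index_dvd_of_le hle
    rcases h.sizes _ hxd with e | e
    · rw [hx, e] at h1
      exact absurd (Nat.le_of_dvd (zero_lt_one.trans h.hn) h1) (not_le.2 h.lt)
    · rw [hx, e]
  exact he.ge.trans (hc.le.trans inf_le_right)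

theorem Chain.kk_big {y z : G} (hy : idx y = n) (hz : idx z = n * m) : kk y = kk z * m := by
  have h1 := (kk_mul y).trans (kk_mul z).symm
  rw [hy, hz] at h1
  refine Nat.eq_of_mul_eq_mul_right (zero_lt_one.trans h.hn) ?_
  rw [h1]; ring

theorem Chain.dvd_kk_big {y : G} (hy : idx y = n) {t : ℕ} (ht : t.Prime)
    (hv : ∃ v : G, El t v ∧ v ∉ center G) : t ∣ kk y := by
  obtain ⟨v, hv, hvZ⟩ := hv
  have h1 := dvd_kk_of_el ht hv hvZ
  rcases h.sizes v hvZ with e | e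
  · rwa [kk_eq_of_idx_eq (e.trans hy.symm)] at h1
  · rw [h.kk_big hy e]; exact h1.mul_right m

theorem Chain.dvd_of_el {t : ℕ} (ht : t.Prime) (hv : ∃ v : G, El t v ∧ v ∉ center G) :
    t ∣ n * m := by
  by_contra hd
  haveI := Fact.mk ht
  obtain ⟨v, hv, hvZ⟩ := hv
  refine hvZ (mem_center_of_not_dvd (fun g hg => hd ?_) hv)
  by_cases hgZ : g ∈ center G
  · rw [idx_eq_one_iff.2 hgZ] at hg
    exact absurd hg ht.not_dvd_one
  · rcases h.sizes g hgZ with e | e <;> rw [e] at hg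
    · exact hg.mul_right m
    · exact hg

/-- Inside a big centralizer a commuting product is big with the same centralizer, or small. -/
theorem Chain.two_cases {q t : ℕ} (hq : q.Prime) (ht : t.Prime) (hqt : q ≠ t) {y v : G}
    (hy : El q y) (hyn : idx y = n) (hv : El t v) (hvy : v ∈ cen y) (hvZ : v ∉ center G) :
    cen v = cen y ∨ idx (y * v) = n * m := by
  have hyZ : y ∉ center G := h.not_mem (Or.inl hyn)
  rcases h.sizes (y * v) (mul_not_mem_center hq ht hqt hy hv hvy hyZ) with e | e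
  · left
    have hm := cen_mul hq ht hqt hy hv hvy
    have h1 := h.cen_eq_of_big e hyZ (hm.le.trans inf_le_left)
    have h2 := h.cen_eq_of_big e hvZ (hm.le.trans inf_le_right)
    exact h2.symm.trans h1
  · exact Or.inr e

theorem Chain.relIndex_inf {y z : G} {K : Subgroup G} (hy : idx y = n) (hz : idx z = n * m)
    (hK : cen z = cen y ⊓ K) : (cen y ⊓ K).relIndex (cen y) = m := by
  have h1 := relIndex_mul_index (inf_le_left : cen y ⊓ K ≤ cen y)
  rw [← hK, show (cen z).index = n * m from hz, show (cen y).index = n from hy, mul_comm n m] at h1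
  rw [← hK]
  exact Nat.eq_of_mul_eq_mul_right (zero_lt_one.trans h.hn) h1

/-- For `c` in a big centralizer with a partner of the same centralizer. -/
theorem Chain.small_of_partner {y b c : G} {s o : ℕ} (hy : idx y = n) (hs : s.Prime)
    (ho : o.Prime) (hso : s ≠ o) (hb : El s b) (hbc : cen b = cen y) (hc : El o c)
    (hcy : c ∈ cen y) (hcn : ¬ cen y ≤ cen c) :
    idx (b * c) = n * m ∧ cen (b * c) = cen y ⊓ cen c := by
  have hbi : idx b = n := (congrArg Subgroup.index hbc).trans hy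
  have hcZ : c ∉ center G := fun hz => hcn fun g _ => mem_cent.2 (mem_center_iff.1 hz g)
  rcases h.two_cases hs ho hso hb hbi hc (hbc ▸ hcy) hcZ with e | e
  · exact absurd (e.trans hbc).ge hcn
  · exact ⟨e, (cen_mul hs ho hso hb hc (hbc ▸ hcy)).trans (by rw [hbc])⟩

omit h

/-- `y` is big and shares its centralizer with an element of another prime. -/
def Alpha (G : Type u) [Group G] (n q : ℕ) (y : G) : Prop :=
  El q y ∧ idx y = n ∧ ∃ t : ℕ, t.Prime ∧ t ≠ q ∧ ∃ v ∈ cen y, El t v ∧ v ∉ center G ∧ cen v = cen y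

/-- `y` is big and shares its centralizer with no element of another prime. -/
def Mono (G : Type u) [Group G] (n q : ℕ) (y : G) : Prop :=
  El q y ∧ idx y = n ∧
    ∀ t : ℕ, t.Prime → t ≠ q → ∀ v ∈ cen y, El t v → v ∉ center G → cen v ≠ cen y

omit [Finite G] in
theorem alpha_or_mono {q : ℕ} {y : G} (hy : El q y) (hyn : idx y = n) :
    Alpha G n q y ∨ Mono G n q y := by
  by_cases h : ∃ t : ℕ, t.Prime ∧ t ≠ q ∧
      ∃ v ∈ cen y, El t v ∧ v ∉ center G ∧ cen v = cen y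
  · exact Or.inl ⟨hy, hyn, h⟩
  · exact Or.inr ⟨hy, hyn, fun t ht htq v hv hve hvZ e => h ⟨t, ht, htq, v, hv, hve, hvZ, e⟩⟩

include h

theorem Alpha.exists_partner {q : ℕ} (hq : q.Prime) {y : G} (hA : Alpha G n q y) (o : ℕ) :
    ∃ s : ℕ, s.Prime ∧ s ≠ o ∧ ∃ b : G, El s b ∧ cen b = cen y := by
  obtain ⟨hy, -, t, ht, htq, v, -, hv, -, hvy⟩ := hA
  by_cases e : q = o
  · exact ⟨t, ht, fun e2 => htq (e2.trans e.symm), v, hv, hvy⟩
  · exact ⟨q, hq, e, y, hy, rfl⟩

/-- Two commuting parts have the same centralizer inside a big centralizer of type alpha. -/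
theorem Alpha.bridge {q : ℕ} (hq : q.Prime) {y : G} (hA : Alpha G n q y) {o1 o2 : ℕ}
    (h1 : o1.Prime) (h2 : o2.Prime) (h12 : o1 ≠ o2) {c c' : G} (hc : El o1 c) (hc' : El o2 c')
    (hcy : c ∈ cen y) (hcy' : c' ∈ cen y) (hcn : ¬ cen y ≤ cen c) (hcn' : ¬ cen y ≤ cen c')
    (hcc : c' ∈ cen c) : cen y ⊓ cen c = cen y ⊓ cen c' := by
  have hyn := hA.2.1
  -- a partner outside the two primes settles the statement
  have key : ∀ s : ℕ, s.Prime → s ≠ o1 → s ≠ o2 → ∀ b : G, El s b → cen b = cen y →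
      cen y ⊓ cen c = cen y ⊓ cen c' := by
    intro s hs hs1 hs2 b hb hby
    obtain ⟨e1, f1⟩ := h.small_of_partner hyn hs h1 hs1 hb hby hc hcy hcn
    obtain ⟨e2, f2⟩ := h.small_of_partner hyn hs h2 hs2 hb hby hc' hcy' hcn'
    have hle := h.le_cen_of_coprime e1 (d := c') (f1 ▸ mem_inf.2 ⟨hcy', hcc⟩)
      (coprime_mul_el hs h1 h2 hs2 h12 hb hc (hby ▸ hcy) hc')
    rw [← f1, ← f2]
    exact eq_of_le_of_idx (f2 ▸ le_inf (f1.le.trans inf_le_left) hle) (e1.trans e2.symm)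
  obtain ⟨s1, hs1p, hs1, b1, hb1, hb1y⟩ := hA.exists_partner h hq o1
  obtain ⟨s2, hs2p, hs2, b2, hb2, hb2y⟩ := hA.exists_partner h hq o2
  by_cases e : s1 = o2
  swap
  · exact key s1 hs1p hs1 e b1 hb1 hb1y
  by_cases e' : s2 = o1
  swap
  · exact key s2 hs2p e' hs2 b2 hb2 hb2y
  obtain ⟨e1, f1⟩ := h.small_of_partner hyn hs1p h1 hs1 hb1 hb1y hc hcy hcn
  obtain ⟨e2, f2⟩ := h.small_of_partner hyn hs2p h2 hs2 hb2 hb2y hc' hcy' hcn'
  obtain ⟨s, hs, hso1, hso2, hse⟩ := h.three o1 o2 h1 h2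
  haveI := Fact.mk hs
  obtain ⟨a, hay, ha, haZ⟩ := exists_el_of_dvd (h.dvd_kk_big hyn hs hse)
  by_cases han : cen y ≤ cen a
  · exact key s hs hso1 hso2 a ha (h.cen_eq_of_big hyn haZ han).symm
  obtain ⟨ea, fa⟩ := h.small_of_partner hyn hs1p hs (e ▸ hso2.symm) hb1 hb1y ha hay han
  have hsd : s ∣ kk (b1 * c) := by
    rw [kk_eq_of_idx_eq (e1.trans ea.symm)]
    exact dvd_relIndex_of_el hs (fa ▸ mem_inf.2 ⟨hay, mem_cent.2 rfl⟩) ha haZ
  obtain ⟨w, hwD, hw, hwZ⟩ := exists_el_of_dvd hsd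
  have hwy : w ∈ cen y := (mem_inf.1 (f1 ▸ hwD)).1
  by_cases hwn : cen y ≤ cen w
  · exact key s hs hso1 hso2 w hw (h.cen_eq_of_big hyn hwZ hwn).symm
  obtain ⟨ew, fw⟩ := h.small_of_partner hyn hs1p hs (e ▸ hso2.symm) hb1 hb1y hw hwy hwn
  have hle := h.le_cen_of_coprime e1 hwD
    (coprime_mul_el hs1p h1 hs (e ▸ hso2.symm) hso1.symm hb1 hc (hb1y ▸ hcy) hw)
  have he : cen (b1 * c) = cen (b1 * w) :=
    eq_of_le_of_idx (fw ▸ le_inf (f1.le.trans inf_le_left) hle) (e1.trans ew.symm)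
  have hwc' : w ∈ cen c' := mem_cen_comm (hle (f1 ▸ mem_inf.2 ⟨hcy', hcc⟩))
  have hle2 := h.le_cen_of_coprime e2 (d := w) (f2 ▸ mem_inf.2 ⟨hwy, hwc'⟩)
    (coprime_mul_el hs2p h2 hs (e' ▸ hso1.symm) hso2.symm hb2 hc' (hb2y ▸ hcy') hw)
  have he2 : cen (b2 * c') = cen (b1 * w) :=
    eq_of_le_of_idx (fw ▸ le_inf (f2.le.trans inf_le_left) hle2) (e2.trans ew.symm)
  rw [← f1, ← f2]
  exact he.trans he2.symm

theorem Alpha.relIndex_eq {q : ℕ} (hq : q.Prime) {y : G} (hA : Alpha G n q y) {c : G}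
    (hc : c ∈ cen y) (hcn : ¬ cen y ≤ cen c) : (cen c).relIndex (cen y) = m := by
  obtain ⟨o, ho, u, hu, hue, hun⟩ : ∃ o : ℕ, o.Prime ∧ ∃ u ∈ zpowers c, El o u ∧ ¬ cen y ≤ cen u := by
    by_contra hno
    push Not at hno
    exact hcn (le_cen_comm.2 (mem_of_parts fun p hp u hu hue => le_cen_comm.1 (hno p hp u hu hue)))
  haveI := Fact.mk ho
  obtain ⟨u', hu', hu'e, hmax⟩ := exists_max_part o c
  have hu'y : u' ∈ cen y := zpowers_le.2 hc hu'
  have hu'n : ¬ cen y ≤ cen u' := fun hle =>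
    hun (hle.trans (cen_le_of_mem_zpowers (hmax u hu hue)))
  obtain ⟨s, hs, hso, b, hb, hby⟩ := hA.exists_partner h hq o
  obtain ⟨e, f⟩ := h.small_of_partner hA.2.1 hs ho hso hb hby hu'e hu'y hu'n
  have hD : cen y ⊓ cen u' ≤ cen c := le_cen_comm.2 (mem_of_parts fun p hp w hw hwe => by
    refine le_cen_comm.1 ?_
    by_cases hpo : p = o
    · exact inf_le_right.trans (cen_le_of_mem_zpowers (hmax w hw (hpo ▸ hwe)))
    by_cases hwn : cen y ≤ cen w
    · exact inf_le_left.trans hwn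
    · refine (hA.bridge h hq ho hp (Ne.symm hpo) hu'e hwe hu'y (zpowers_le.2 hc hw) hu'n hwn
        ?_).le.trans inf_le_right
      obtain ⟨i, rfl⟩ := mem_zpowers_iff.1 hw
      obtain ⟨j, rfl⟩ := mem_zpowers_iff.1 hu'
      exact mem_cent.2 (((Commute.refl c).zpow_zpow i j).eq))
  have heq : cen y ⊓ cen c = cen y ⊓ cen u' :=
    le_antisymm (inf_le_inf_left _ (cen_le_of_mem_zpowers hu')) (le_inf inf_le_left hD)
  rw [← inf_relIndex_right, inf_comm, heq]
  exact h.relIndex_inf hA.2.1 e f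

theorem Alpha.two_sizes {q : ℕ} (hq : q.Prime) {y : G} (hA : Alpha G n q y) (x : cen y) :
    idx x = 1 ∨ idx x = m := by
  have e : centralizer ({x} : Set (cen y)) = (cen (x : G)).subgroupOf (cen y) := by
    ext w
    rw [mem_subgroupOf, mem_cent, mem_cent, Subtype.ext_iff, coe_mul, coe_mul]
  have e2 : idx x = (cen (x : G)).relIndex (cen y) := congrArg Subgroup.index e
  rw [e2]
  by_cases hx : cen y ≤ cen (x : G)
  · exact Or.inl (relIndex_eq_one.2 hx)
  · exact Or.inr (hA.relIndex_eq h hq x.2 hx)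

/-- An abelian big centralizer gives solvability. -/
theorem Alpha.solvable_of_comm {q : ℕ} {y : G} (hA : Alpha G n q y)
    (hcomm : ∀ c ∈ cen y, cen y ≤ cen c) : Group.IsSolvable G := by
  have hyn := hA.2.1
  have huniq : ∀ r : ℕ, ∀ x ∈ cen y, El r x → x ∉ center G → (⊤ : Subgroup G) ⊓ cen x = cen y :=
    fun r x hx _ hxZ => by rw [top_inf_eq, h.cen_eq_of_big hyn hxZ (hcomm x hx)]
  have hprime : ∀ d : ℕ, d.Prime → d ∣ n → d ∣ kk y := by
    intro d hd hdn
    haveI := Fact.mk hd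
    exact h.dvd_kk_big hyn hd
      (exists_el_of_dvd_index ((hyn.symm ▸ hdn : d ∣ idx y).trans (idx_dvd_index_center y)))
  obtain ⟨r, hr, hrn⟩ := Nat.exists_prime_and_dvd h.hn.ne'
  have hnu : ∀ d : ℕ, d.Prime → d ∣ n → d = r := by
    intro d hd hdn
    by_contra hne
    haveI := Fact.mk hd
    haveI := Fact.mk hr
    obtain ⟨cd, hdD, hcd, hcdZ⟩ := exists_el_of_dvd (hprime d hd hdn)
    obtain ⟨cr, hrD, hcr, hcrZ⟩ := exists_el_of_dvd (hprime r hr hrn)
    have hi : (cen y).relIndex ⊤ = n := (relIndex_top_right _).trans hyn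
    exact false_of_two_nonfull (H := ⊤) (Z := center G) le_top
      (fun g _ z hz => mem_center_iff.1 hz g) hne hdD hcd hcdZ hrD hcr hcrZ (huniq d) (huniq r)
      (hi.symm ▸ hdn) (hi.symm ▸ hrn)
  refine solvable_of_ppow hr fun l hl hlr v hv d hd hdd => ?_
  by_cases hvZ : v ∈ center G
  · rw [idx_eq_one_iff.2 hvZ] at hdd
    exact absurd hdd hd.not_dvd_one
  haveI := Fact.mk hl
  obtain ⟨g, hg⟩ := exists_conj_mem (H := cen y) (t := l)
    (fun hd' => hlr (hnu l hl (hyn ▸ hd'))) hv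
  have hc := h.cen_eq_of_big hyn (not_mem_center_conj hvZ g) (hcomm _ hg)
  have hi : idx v = n := by
    rw [← idx_conj g v]
    exact (congrArg Subgroup.index hc).symm.trans hyn
  exact hnu d hd (hi ▸ hdd)

/-- In type alpha, `m` is a prime power and the other primes are central. -/
theorem Alpha.result (hns : ¬ Group.IsSolvable G) {q : ℕ} (hq : q.Prime) {y : G}
    (hA : Alpha G n q y) :
    ∃ a : ℕ, a.Prime ∧ (∀ d : ℕ, d.Prime → d ∣ m → d = a) ∧
      ∀ l : ℕ, l.Prime → l ≠ a → ∀ u ∈ cen y, El l u → cen y ≤ cen u := by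
  obtain ⟨c, hc, hcn⟩ : ∃ c ∈ cen y, ¬ cen y ≤ cen c := by
    by_contra hno
    push Not at hno
    exact hns (hA.solvable_of_comm h hno)
  obtain ⟨a, ha, u, hu, hue, hun⟩ : ∃ o : ℕ, o.Prime ∧ ∃ u ∈ cen y, El o u ∧ ¬ cen y ≤ cen u := by
    by_contra hno
    push Not at hno
    exact hcn (le_cen_comm.2 (mem_of_parts fun p hp u hu hue =>
      le_cen_comm.1 (hno p hp u (zpowers_le.2 hc hu) hue)))
  have hcenH : ∀ (w : G) (hw : w ∈ cen y), ¬ cen y ≤ cen w → (⟨w, hw⟩ : cen y) ∉ center (cen y) :=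
    fun w hw hwn hc' => hwn fun g hg => mem_cent.2
      (congrArg Subtype.val (mem_center_iff.1 hc' ⟨g, hg⟩))
  have hcent : ∀ l : ℕ, l.Prime → l ≠ a → ∀ w ∈ cen y, El l w → cen y ≤ cen w := by
    intro l hl hla w hw hwe
    by_contra hwn
    exact ClassSizeIto.unique_prime h.hm (hA.two_sizes h hq) hl ha hla (hcenH w hw hwn)
      (hcenH u hu hun)
      ((hwe.exists_orderOf hl).imp fun i hi => by rwa [Subgroup.orderOf_mk])
      ((hue.exists_orderOf ha).imp fun i hi => by rwa [Subgroup.orderOf_mk])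
  refine ⟨a, ha, fun d hd hdm => ?_, hcent⟩
  by_contra hda
  haveI := Fact.mk hd
  have hrel := hA.relIndex_eq h hq hu hun
  rw [← hrel] at hdm
  obtain ⟨P⟩ : Nonempty (Sylow d (cen y)) := inferInstance
  refine P.not_dvd_index' FiniteIndex.index_ne_zero (hdm.trans (index_dvd_of_le fun w hw => ?_))
  obtain ⟨k, hk⟩ := P.2 ⟨w, hw⟩
  have hwd : El d (w : G) := ⟨k, by
    have := congrArg (fun z : (P : Subgroup (cen y)) => ((z : cen y) : G)) hk
    simpa using this⟩
  exact mem_subgroupOf.2 (mem_cen_comm (hcent d hd hda _ w.2 hwd hu))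

end Cfsg.Agent.Lib.ThreeSizes
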