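import Cfsg.Agent.Lib.ThreeSizes.Solv

/-!
# Three class sizes: common tools
-/

set_option autoImplicit false

namespace Cfsg.Agent.Lib.ThreeSizes

open Subgroup ClassSizeTop
open scoped Pointwise

universe u

variable {G : Type u} [Group G]

/-- The non-central classes have two possible sizes. -/
def Sizes (G : Type u) [Group G] (n M : ℕ) : Prop :=
  ∀ x : G, x ∉ center G → idx x = n ∨ idx x = M

theorem not_mem_center_conj {x : G} (h : x ∉ center G) (g : G) : g * x * g⁻¹ ∉ center G :=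
  fun hc => h (by
    simpa [mul_assoc] using (show g⁻¹ * (g * x * g⁻¹) * g⁻¹⁻¹ ∈ center G from
      (inferInstance : (center G).Normal).conj_mem _ hc g⁻¹))

theorem conj_conj (g x : G) : g⁻¹ * (g * x * g⁻¹) * g⁻¹⁻¹ = x := by group

theorem cen_conj_congr {x y : G} (h : cen x = cen y) (g : G) :
    cen (g * x * g⁻¹) = cen (g * y * g⁻¹) :=
  (cent_conj g x).trans ((congrArg _ h).trans (cent_conj g y).symm)

theorem mul_not_mem_center {r s : ℕ} {u v : G} (hr : r.Prime) (hs : s.Prime) (hrs : r ≠ s)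
    (hu : El r u) (hv : El s v) (h : v ∈ cen u) (hu' : u ∉ center G) : u * v ∉ center G := by
  intro hc
  refine hu' (mem_center_iff.2 fun g => mem_cent.1 (?_ : g ∈ cen u))
  have h2 : g ∈ cen (u * v) := mem_cent.2 (mem_center_iff.1 hc g)
  rw [cen_mul hr hs hrs hu hv h] at h2
  exact (mem_inf.1 h2).1

theorem Big.map {X : Type u} [Group X] [Finite G] {p r : ℕ} (f : G →* X)
    (hf : Function.Surjective f) {v : G} (h : Big p r v) : Big p r (f v) := by
  rcases h with h | ⟨A, M, hAM, ⟨k, hk⟩, hA, hn, hp, hv⟩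
  · refine Or.inl (mem_center_iff.2 fun x => ?_)
    obtain ⟨g, rfl⟩ := hf x
    rw [← map_mul, mem_center_iff.1 h g, map_mul]
  · refine Or.inr ⟨A.map f, M.map f, map_mono hAM,
      ⟨k, (index_map_dvd _ hf).trans hk⟩, ?_, ?_, ?_, mem_map_of_mem _ hv⟩
    · rintro _ ⟨a, ha, rfl⟩ _ ⟨b, hb, rfl⟩
      rw [← map_mul, ← map_mul, hA a ha b hb]
    · rintro _ ⟨g, hg, rfl⟩ _ ⟨a, ha, rfl⟩
      exact ⟨g * a * g⁻¹, hn g hg a ha, by simp only [map_mul, map_inv]⟩
    · rintro _ ⟨g, hg, rfl⟩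
      obtain ⟨i, hi⟩ := hp g hg
      exact ⟨i, g ^ r ^ i, hi, map_pow _ _ _⟩

theorem Big.of_conj [Finite G] {p r : ℕ} {v : G} {g : G} (h : Big p r (g * v * g⁻¹)) :
    Big p r v := by
  have h2 := h.map (MulAut.conj g⁻¹).toMonoidHom (MulAut.conj g⁻¹).surjective
  rwa [MulEquiv.coe_toMonoidHom, MulAut.conj_apply, conj_conj] at h2

variable [Finite G]

/-- A prime divisor of `[G : Z(G)]` comes from a non-central element. -/
theorem exists_el_of_dvd_index {t : ℕ} [Fact t.Prime] (h : t ∣ (center G).index) :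
    ∃ v : G, El t v ∧ v ∉ center G := by
  obtain ⟨v, -, hv⟩ := exists_el_of_dvd (A := (⊤ : Subgroup G)) (r := t) (by rwa [relIndex_top_right])
  exact ⟨v, hv⟩

theorem dvd_kk_of_el {t : ℕ} (ht : t.Prime) {v : G} (hv : El t v) (hvZ : v ∉ center G) :
    t ∣ kk v := dvd_relIndex_of_el ht (mem_cent.2 rfl) hv hvZ

theorem idx_dvd_index_center (x : G) : idx x ∣ (center G).index :=
  ⟨kk x, by rw [mul_comm, kk_mul]⟩

theorem kk_eq_of_idx_eq {x y : G} (h : idx x = idx y) : kk x = kk y :=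
  Nat.eq_of_mul_eq_mul_right (idx_pos x) ((kk_mul x).trans (by rw [h, kk_mul]))

/-- A subgroup of index prime to `t` meets every conjugacy class of `t`-elements. -/
theorem exists_conj_mem {H : Subgroup G} {t : ℕ} [ht : Fact t.Prime] (hH : ¬ t ∣ H.index) {c : G}
    (hc : El t c) : ∃ g : G, g * c * g⁻¹ ∈ H := by
  have hp : IsPGroup t (zpowers c) := by
    rintro ⟨x, hx⟩
    obtain ⟨j, rfl⟩ := mem_zpowers_iff.1 hx
    obtain ⟨k, hk⟩ := hc
    refine ⟨k, Subtype.ext ?_⟩
    show (c ^ j) ^ t ^ k = 1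
    rw [← zpow_natCast, ← zpow_mul, mul_comm, zpow_mul, zpow_natCast, hk, one_zpow]
  obtain ⟨q, hq⟩ := hp.nonempty_fixed_point_of_prime_not_dvd_card (G ⧸ H)
    (by rwa [← index_eq_card])
  obtain ⟨g, rfl⟩ := QuotientGroup.mk_surjective q
  refine ⟨g⁻¹, ?_⟩
  have h1 : ((c * g : G) : G ⧸ H) = g := hq ⟨c, mem_zpowers c⟩
  simpa [mul_assoc] using QuotientGroup.eq.1 h1.symm

theorem le_normalizer_cen {S : Subgroup G} {u : G}
    (h : ∀ g ∈ S, g * u * g⁻¹ * u⁻¹ ∈ center G) : S ≤ normalizer (cen u : Set G) := by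
  intro g hg
  refine mem_normalizer_of_norms fun a ha => ?_
  have h1 : cen (g * u * g⁻¹) = cen u := by
    have h2 := cent_mul_central (v := u) (h g hg)
    rwa [inv_mul_cancel_right] at h2
  exact h1 ▸ mem_cen_conj ha

/-- An element of a Sylow subgroup which is central in it modulo `Z(G)`. -/
theorem exists_centralish {r : ℕ} [Fact r.Prime] (R : Sylow r G)
    (h : ∃ v : G, El r v ∧ v ∉ center G) :
    ∃ u ∈ (R : Subgroup G), El r u ∧ u ∉ center G ∧
      ∀ g ∈ (R : Subgroup G), g * u * g⁻¹ * u⁻¹ ∈ center G := by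
  obtain ⟨v, hv, hvZ⟩ := h
  obtain ⟨g, hg⟩ := exists_conj_mem (R.not_dvd_index' FiniteIndex.index_ne_zero) hv
  set P := (R : Subgroup G).map (QuotientGroup.mk' (center G)) with hP
  haveI : Nontrivial P := (nontrivial_iff_ne_bot _).2 fun hb =>
    not_mem_center_conj hvZ g ((QuotientGroup.eq_one_iff _).1
      (mem_bot.1 (hb ▸ mem_map_of_mem (QuotientGroup.mk' (center G)) hg)))
  haveI := (R.2.map (QuotientGroup.mk' (center G))).center_nontrivial (G := P)
  obtain ⟨⟨⟨_, u, hu, rfl⟩, hyc⟩, hy1⟩ := exists_ne (1 : center P)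
  refine ⟨u, hu, (R.2 ⟨u, hu⟩).imp fun k hk => ?_, fun hc => hy1 (Subtype.ext (Subtype.ext
    ((QuotientGroup.eq_one_iff u).2 hc))), fun x hx => ?_⟩
  · exact congrArg Subtype.val hk
  · refine (QuotientGroup.eq_one_iff _).1 ?_
    have h2 := congrArg Subtype.val (mem_center_iff.1 hyc ⟨_, mem_map_of_mem _ hx⟩)
    simp only [coe_mul, QuotientGroup.mk'_apply] at h2
    rw [QuotientGroup.mk_mul, QuotientGroup.mk_mul, QuotientGroup.mk_mul, h2,
      QuotientGroup.mk_inv, QuotientGroup.mk_inv, mul_inv_cancel_right, mul_inv_cancel]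

theorem pow_mul_mem {A : Subgroup G} {y c : G} (hy : y ∈ normalizer (A : Set G)) (hc : c ∈ A)
    (n : ℕ) : ∃ c' ∈ A, (y * c) ^ n = y ^ n * c' := by
  induction n with
  | zero => exact ⟨1, one_mem A, by simp⟩
  | succ n ih =>
    obtain ⟨c', hc', he⟩ := ih
    refine ⟨y⁻¹ * c' * y * c, mul_mem ((mem_normalizer_iff''.1 hy c').1 hc') hc, ?_⟩
    rw [pow_succ, he, pow_succ]
    group

/-- Elements of an abelian subgroup normalized by a Sylow `r`-subgroup are big. -/
theorem big_of_sylow {p r : ℕ} (hp : p.Prime) [hr : Fact r.Prime] {A : Subgroup G}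
    (hA : ∀ a ∈ A, ∀ b ∈ A, a * b = b * a) (R : Sylow r G)
    (hRA : (R : Subgroup G) ≤ normalizer (A : Set G)) (hPR : PR p r A.index) {v : G} (hv : v ∈ A) :
    Big p r v := by
  refine Or.inr ⟨A, (R : Subgroup G) ⊔ A, le_sup_right, ?_, hA,
    fun g hg => norms_of_mem_normalizer (sup_le hRA le_normalizer hg), fun g hg => ?_, hv⟩
  · refine ⟨((R : Subgroup G) ⊔ A).index.primeFactorsList.length, dvd_of_eq
      (Nat.eq_prime_pow_of_unique_prime_dvd FiniteIndex.index_ne_zero fun {d} hd hdd => ?_)⟩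
    refine (hPR d hd (hdd.trans (index_dvd_of_le le_sup_right))).resolve_right fun e => ?_
    exact R.not_dvd_index' FiniteIndex.index_ne_zero
      ((dvd_of_eq e.symm).trans (hdd.trans (index_dvd_of_le le_sup_left)))
  · have hg' : g ∈ ((R : Subgroup G) : Set G) * (A : Set G) := by
      rw [← coe_mul_of_left_le_normalizer_right _ _ hRA]
      exact hg
    obtain ⟨y, hy, c, hc, rfl⟩ := hg'
    obtain ⟨k, hk⟩ := R.2 ⟨y, hy⟩
    obtain ⟨c', hc', he⟩ := pow_mul_mem (hRA hy) hc (r ^ k)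
    refine ⟨k, he ▸ ?_⟩
    have hk' : y ^ r ^ k = 1 := congrArg Subtype.val hk
    rw [hk', one_mul]
    exact hc'

/-- Two prime powers covering all the element orders give solvability. -/
theorem isSolvable_of_cover {p q : ℕ} (hp : p.Prime) (hq : q.Prime)
    (h : ∀ (t : ℕ) (v : G), t.Prime → El t v → v ∉ center G → t = p ∨ t = q) :
    Group.IsSolvable G :=
  isSolvable_of_two_primes hp hq fun t ht htd => by
    haveI := Fact.mk ht
    obtain ⟨v, hv, hvZ⟩ := exists_el_of_dvd_index htd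
    exact h t v ht hv hvZ

end Cfsg.Agent.Lib.ThreeSizes
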