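import Cfsg.Agent.Lib.Transfer.Criteria
import Cfsg.Agent.Lib.Coprime.Sylow
import Cfsg.Agent.Lib.ClassSize.Cover

/-!
# Groups acting on an abelian group without fixed points outside a subgroup

`F` acts on the finite abelian group `V`, fixing `S` pointwise.  If elements of prime order have
no fixed points outside `S` on sufficiently many primary parts of `V`, then `F` is a `t`-group.
-/

set_option autoImplicit false

namespace Cfsg.Agent.Lib.ThreeSizes

open Subgroup

section Abstract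

variable {F V : Type*} [Group F] [CommGroup V] (ρ : F →* MulAut V) (S : Subgroup V)

/-- `v` is an element of `s`-power order. -/
def El {M : Type*} [Monoid M] (s : ℕ) (v : M) : Prop := ∃ k : ℕ, v ^ s ^ k = 1

/-- All the fixed `s`-elements of `g` lie in `S`. -/
def Free (g : F) (s : ℕ) : Prop := ∀ w : V, El s w → ρ g w = w → w ∈ S

/-- The norm of `v` along the powers of `g`. -/
def nm (g : F) (n : ℕ) (v : V) : V := ∏ i ∈ Finset.range n, ρ (g ^ i) v

theorem El.map {M N : Type*} [Monoid M] [Monoid N] {s : ℕ} {v : M} (h : El s v) (f : M →* N) :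
    El s (f v) := h.imp fun k hk => by rw [← map_pow, hk, map_one]

theorem El.mem_of_pow_mem {M : Type*} [Group M] {T : Subgroup M} {s a : ℕ} {v : M} (h : El s v)
    (hsa : a.Coprime s) (hv : v ^ a ∈ T) : v ∈ T := by
  obtain ⟨k, hk⟩ := h
  have hco : a.Coprime (orderOf v) :=
    (hsa.pow_right k).coprime_dvd_right (orderOf_dvd_of_pow_eq_one hk)
  obtain ⟨l, hl⟩ := exists_pow_eq_self_of_coprime hco
  rw [← hl]
  exact T.pow_mem hv l

theorem El.nm {s : ℕ} {v : V} (h : El s v) (g : F) (n : ℕ) : El s (nm ρ g n v) :=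
  h.imp fun k hk => by
    rw [ThreeSizes.nm, ← Finset.prod_pow]
    exact Finset.prod_eq_one fun i _ => by rw [← map_pow, hk, map_one]

theorem fixed_nm {g : F} {n : ℕ} (hg : g ^ n = 1) (v : V) : ρ g (nm ρ g n v) = nm ρ g n v := by
  have h : ρ g (nm ρ g n v) = ∏ i ∈ Finset.range n, ρ (g ^ (i + 1)) v := by
    rw [nm, map_prod]
    exact Finset.prod_congr rfl fun i _ => by rw [pow_succ', map_mul]; rfl
  have h2 := Finset.prod_range_succ' (fun i => ρ (g ^ i) v) n
  have h3 := Finset.prod_range_succ (fun i => ρ (g ^ i) v) n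
  rw [h3, hg, pow_zero] at h2
  rw [h, nm]
  exact (mul_right_cancel h2).symm

theorem nm_mem {g : F} {n s : ℕ} (hg : g ^ n = 1) (hf : Free ρ S g s) {v : V} (hv : El s v) :
    nm ρ g n v ∈ S := hf _ (hv.nm ρ g n) (fixed_nm ρ hg v)

theorem prod_range_mul {M : Type*} [CommMonoid M] {a c : ℕ} (ha : a.Prime) (hc : ¬ a ∣ c)
    (f : ℕ → M) : ∏ i ∈ Finset.range a, f (c * i % a) = ∏ i ∈ Finset.range a, f i := by
  have hinj : Set.InjOn (fun i => c * i % a) (Finset.range a : Set ℕ) := by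
    intro i hi j hj hij
    have hco : Nat.gcd a c = 1 := (ha.coprime_iff_not_dvd.2 hc)
    have h : i ≡ j [MOD a] := Nat.ModEq.cancel_left_of_coprime hco hij
    rw [Nat.ModEq, Nat.mod_eq_of_lt (Finset.mem_range.1 hi),
      Nat.mod_eq_of_lt (Finset.mem_range.1 hj)] at h
    exact h
  have himg : (Finset.range a).image (fun i => c * i % a) = Finset.range a := by
    refine Finset.eq_of_subset_of_card_le (fun x hx => ?_) ?_
    · obtain ⟨i, -, rfl⟩ := Finset.mem_image.1 hx
      exact Finset.mem_range.2 (Nat.mod_lt _ ha.pos)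
    · rw [Finset.card_image_of_injOn hinj]
  conv_rhs => rw [← himg, Finset.prod_image hinj]

/-- If the norms of `n` and of all `x i` lie in `S`, then so does `v ^ a`. -/
theorem pow_mem_of_norms {a b : ℕ} (ha : a.Prime) (hb : 0 < b) {n g : F} (hn : n ^ a = 1)
    (x : ℕ → F) (hx : ∀ j, 0 < j → j < b → ∃ c, ¬ a ∣ c ∧ ∀ i, x i ^ j = n ^ (c * i) * g ^ j)
    {v : V} (hN : ∀ i, nm ρ (x i) b v ∈ S) (hM : ∀ j, nm ρ n a (ρ (g ^ j) v) ∈ S) :
    v ^ a ∈ S := by
  have h1 : ∏ j ∈ Finset.range b, ∏ i ∈ Finset.range a, ρ (x i ^ j) v ∈ S := by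
    rw [Finset.prod_comm]
    exact S.prod_mem fun i _ => hN i
  obtain ⟨b', rfl⟩ : ∃ b', b = b' + 1 := ⟨b - 1, by omega⟩
  rw [Finset.prod_range_succ'] at h1
  have h2 : ∏ i ∈ Finset.range a, ρ (x i ^ 0) v = v ^ a := by simp
  have h3 : ∏ j ∈ Finset.range b', ∏ i ∈ Finset.range a, ρ (x i ^ (j + 1)) v ∈ S := by
    refine S.prod_mem fun j hj => ?_
    obtain ⟨c, hc, hcx⟩ := hx (j + 1) (Nat.succ_pos j)
      (Nat.succ_lt_succ (Finset.mem_range.1 hj))
    have heq : ∏ i ∈ Finset.range a, ρ (x i ^ (j + 1)) v = nm ρ n a (ρ (g ^ (j + 1)) v) := by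
      rw [nm]
      refine Eq.trans ?_ (prod_range_mul ha hc fun i => ρ (n ^ i) (ρ (g ^ (j + 1)) v))
      refine Finset.prod_congr rfl fun i _ => ?_
      rw [hcx, map_mul, pow_eq_pow_mod (c * i) hn]
      rfl
    rw [heq]
    exact hM _
  rw [h2] at h1
  simpa using S.mul_mem (S.inv_mem h3) h1

/-- No two independent commuting elements of order `a` without fixed points on an `s`-part. -/
theorem false_of_comm_pair {a s : ℕ} (ha : a.Prime) (hs : s.Prime) (has : a ≠ s) {n g : F}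
    (hn : orderOf n = a) (hg : orderOf g = a) (hc : Commute n g) (hni : g ∉ zpowers n)
    {v : V} (hv : El s v) (hvS : v ∉ S) (hf : ∀ y : F, orderOf y = a → Free ρ S y s) : False := by
  refine hvS (hv.mem_of_pow_mem ((Nat.coprime_primes ha hs).2 has) ?_)
  have hn1 : n ^ a = 1 := hn ▸ pow_orderOf_eq_one n
  refine pow_mem_of_norms ρ S ha ha.pos hn1 (fun i => n ^ i * g)
    (fun j hj hja => ⟨j, fun h => absurd (Nat.le_of_dvd hj h) (not_le.2 hja), fun i => ?_⟩)
    (fun i => ?_) fun j => nm_mem ρ S hn1 (hf n hn) (hv.map (ρ (g ^ j)).toMonoidHom)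
  · show (n ^ i * g) ^ j = n ^ (j * i) * g ^ j
    rw [(hc.pow_left i).mul_pow, ← pow_mul, mul_comm i j]
  · have h1 : (n ^ i * g) ^ a = 1 := by
      rw [(hc.pow_left i).mul_pow, ← pow_mul, mul_comm i a, pow_mul, hn1, one_pow, one_mul,
        ← hg, pow_orderOf_eq_one]
    refine nm_mem ρ S h1 (hf _ ?_) hv
    haveI := Fact.mk ha
    refine orderOf_eq_prime h1 fun h => hni ?_
    rw [eq_inv_of_mul_eq_one_right h]
    exact inv_mem (pow_mem (mem_zpowers n) i)

/-- No non-abelian group of order `ab` without fixed points on an `s`-part, `s ≠ a`. -/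
theorem false_of_twisted {a b s : ℕ} (ha : a.Prime) (hb : b.Prime) (hs : s.Prime) (has : a ≠ s)
    {n g : F} (hn : orderOf n = a) (hg : orderOf g = b) (hnorm : g * n * g⁻¹ ∈ zpowers n)
    (hnc : ¬ Commute g n) {v : V} (hv : El s v) (hvS : v ∉ S)
    (hf : ∀ y : F, orderOf y = a ∨ orderOf y = b → Free ρ S y s) : False := by
  refine hvS (hv.mem_of_pow_mem ((Nat.coprime_primes ha hs).2 has) ?_)
  have hn1 : n ^ a = 1 := hn ▸ pow_orderOf_eq_one n
  have hg1 : g ^ b = 1 := hg ▸ pow_orderOf_eq_one g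
  obtain ⟨k, hk'⟩ : ∃ k : ℕ, n ^ k = g * n * g⁻¹ := by
    obtain ⟨z, hz⟩ := mem_zpowers_iff.1 hnorm
    refine ⟨(z % (a : ℤ)).toNat, ?_⟩
    rw [← hz, ← zpow_natCast, Int.toNat_of_nonneg (Int.emod_nonneg _ (by exact_mod_cast ha.ne_zero)),
      ← hn, zpow_mod_orderOf]
  have hconj : ∀ j i : ℕ, g ^ j * n ^ i * (g ^ j)⁻¹ = n ^ (k ^ j * i) := by
    intro j
    induction j with
    | zero => intro i; simp
    | succ j ih =>
      intro i
      calc g ^ (j + 1) * n ^ i * (g ^ (j + 1))⁻¹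
          = g * (g ^ j * n ^ i * (g ^ j)⁻¹) * g⁻¹ := by rw [pow_succ']; group
        _ = (g * n * g⁻¹) ^ (k ^ j * i) := by rw [ih, conj_pow]
        _ = n ^ (k ^ (j + 1) * i) := by
            rw [← hk', ← pow_mul]
            congr 1
            ring
  refine pow_mem_of_norms ρ S ha hb.pos hn1 (fun i => n ^ i * g * (n ^ i)⁻¹)
    (fun j hj hjb => ⟨1 + (a - 1) * k ^ j, fun hd => hnc ?_, fun i => ?_⟩) (fun i => ?_)
    fun j => nm_mem ρ S hn1 (hf n (Or.inl hn)) (hv.map (ρ (g ^ j)).toMonoidHom)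
  · have hgj : Commute (g ^ j) n := by
      have h1 : n ^ (1 + (a - 1) * k ^ j) = 1 := by
        obtain ⟨e, he⟩ := hd
        rw [he, pow_mul, hn1, one_pow]
      have h2 : n ^ (k ^ j) = n := by
        have h4 : n ^ ((a - 1) * k ^ j) * n ^ (k ^ j) = 1 := by
          rw [← pow_add, ← Nat.succ_mul, show (a - 1).succ = a by have := ha.pos; omega, pow_mul,
            hn1, one_pow]
        rw [pow_add, pow_one] at h1
        exact (eq_inv_of_mul_eq_one_right h4).trans (eq_inv_of_mul_eq_one_left h1).symm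
      have h3 := hconj j 1
      rw [pow_one, mul_one, h2] at h3
      exact mul_inv_eq_iff_eq_mul.1 h3
    obtain ⟨l, hl⟩ := exists_pow_eq_self_of_coprime (x := g) (n := j)
      (by rw [hg]; exact (hb.coprime_iff_not_dvd.2 fun h => absurd (Nat.le_of_dvd hj h)
        (not_le.2 hjb)).symm)
    rw [← hl]
    exact hgj.pow_left l
  · show (n ^ i * g * (n ^ i)⁻¹) ^ j = n ^ ((1 + (a - 1) * k ^ j) * i) * g ^ j
    have h1 : n ^ ((a - 1) * k ^ j * i) = (n ^ (k ^ j * i))⁻¹ := by
      refine eq_inv_of_mul_eq_one_left ?_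
      rw [← pow_add, mul_assoc, ← Nat.succ_mul, show (a - 1).succ = a by have := ha.pos; omega,
        pow_mul, hn1, one_pow]
    calc (n ^ i * g * (n ^ i)⁻¹) ^ j = n ^ i * g ^ j * (n ^ i)⁻¹ := conj_pow
      _ = n ^ i * (g ^ j * n ^ i * (g ^ j)⁻¹)⁻¹ * g ^ j := by simp [mul_assoc]
      _ = _ := by rw [hconj, ← h1, ← pow_add]; congr 2; ring
  · have h1 : (n ^ i * g * (n ^ i)⁻¹) ^ b = 1 := by rw [conj_pow, hg1]; group
    refine nm_mem ρ S h1 (hf _ (Or.inr ?_)) hv
    rw [← MulAut.conj_apply, MulEquiv.orderOf_eq, hg]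

/-- A fixed coset of a `t`-part under an element of order `t`. -/
theorem exists_fixed_mod [Finite F] [Finite V] (hfix : ∀ f : F, ∀ z ∈ S, ρ f z = z) {t : ℕ}
    [ht : Fact t.Prime] {τ : F} (hτ : orderOf τ = t) {v : V} (hv : El t v) (hvS : v ∉ S) :
    ∃ c : V, El t c ∧ c ∉ S ∧ ρ τ c * c⁻¹ ∈ S := by
  classical
  let q := QuotientGroup.mk' S
  let W : Subgroup (V ⧸ S) :=
    { carrier := {w | El t w}
      one_mem' := ⟨0, by simp⟩
      mul_mem' := by
        rintro x y ⟨i, hi⟩ ⟨j, hj⟩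
        exact ⟨i + j, by rw [mul_pow, pow_add, pow_mul, hi, one_pow, one_mul, mul_comm, pow_mul, hj,
          one_pow]⟩
      inv_mem' := by
        rintro x ⟨i, hi⟩
        exact ⟨i, by rw [inv_pow, hi, inv_one]⟩ }
  have hmap : ∀ f : F, S ≤ S.comap (ρ f).toMonoidHom := fun f z hz => by
    show ρ f z ∈ S
    rw [hfix f z hz]; exact hz
  let act : F → V ⧸ S →* V ⧸ S := fun f => QuotientGroup.map S S (ρ f).toMonoidHom (hmap f)
  letI : MulAction (zpowers τ) W :=
    { smul := fun f w => ⟨act (f : F) (w : V ⧸ S), El.map w.2 _⟩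
      one_smul := fun w => by
        obtain ⟨⟨x⟩, hx⟩ := w
        refine Subtype.ext ?_
        show act ((1 : zpowers τ) : F) (Quot.mk _ x) = _
        exact congrArg q (by rw [OneMemClass.coe_one, map_one]; rfl)
      mul_smul := fun f g w => by
        obtain ⟨⟨x⟩, hx⟩ := w
        refine Subtype.ext ?_
        show act ((f * g : zpowers τ) : F) (Quot.mk _ x) = act f (act g (Quot.mk _ x))
        exact congrArg q (by rw [Subgroup.coe_mul, map_mul]; rfl) }
  have hP : IsPGroup t (zpowers τ) := IsPGroup.of_card (n := 1) (by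
    rw [Nat.card_zpowers, hτ, pow_one])
  have hW : IsPGroup t W := fun w => w.2.imp fun k hk => Subtype.ext (by simpa using hk)
  have hvW : (⟨q v, hv.map q⟩ : W) ≠ 1 := fun h => hvS
    ((QuotientGroup.eq_one_iff v).1 (congrArg Subtype.val h))
  haveI : Nontrivial W := ⟨_, _, hvW⟩
  obtain ⟨k, hk, hk'⟩ := hW.nontrivial_iff_card.1 inferInstance
  have h1 : (1 : W) ∈ MulAction.fixedPoints (zpowers τ) W := fun f => Subtype.ext (map_one (act f))
  obtain ⟨b, hb, hb1⟩ := hP.exists_fixed_point_of_prime_dvd_card_of_fixed_point W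
    (hk' ▸ dvd_pow_self t hk.ne') h1
  obtain ⟨x, hx⟩ := QuotientGroup.mk_surjective (b : V ⧸ S)
  obtain ⟨c, y, hxcy, -, ⟨i, hi⟩, hy, -, -⟩ := ClassSize.exists_pParts (p := t) x
  have hcb : q c = (b : V ⧸ S) := by
    obtain ⟨j, hj⟩ := b.2
    have hqy : orderOf (q y) = 1 := by
      have hd : orderOf (q y) ∣ t ^ (i + j) := orderOf_dvd_of_pow_eq_one (by
        have h2 : q c * q y = b := by rw [← map_mul, ← hxcy]; exact hx
        rw [show q y = (q c)⁻¹ * b by rw [← h2]; group, mul_pow, inv_pow,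
          pow_add, pow_mul, pow_mul, ← map_pow, ← hi, pow_orderOf_eq_one, map_one, one_pow, inv_one,
          one_mul, ← pow_mul, mul_comm, pow_mul, hj, one_pow])
      exact Nat.eq_one_of_dvd_coprimes
        ((hy.pow_right (i + j)).coprime_dvd_left (orderOf_map_dvd q y)) dvd_rfl hd
    rw [← hx, hxcy]
    show q c = q (c * y)
    rw [map_mul, orderOf_eq_one_iff.1 hqy, mul_one]
  refine ⟨c, ⟨i, by rw [← hi, pow_orderOf_eq_one]⟩, fun hcS => hb1 (Subtype.ext ?_), ?_⟩
  · exact (hcb.symm.trans ((QuotientGroup.eq_one_iff c).2 hcS)).symm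
  · have h2 := congrArg Subtype.val (hb ⟨τ, mem_zpowers τ⟩)
    change act τ (b : V ⧸ S) = b at h2
    rw [← hcb] at h2
    refine (QuotientGroup.eq_one_iff _).1 ?_
    rw [QuotientGroup.mk_mul, QuotientGroup.mk_inv, mul_inv_eq_one]
    exact h2

/-- No commuting pair of prime orders `t ≠ l`. -/
theorem false_of_coprime_pair [Finite F] [Finite V] (hfix : ∀ f : F, ∀ z ∈ S, ρ f z = z) {t l : ℕ}
    [ht : Fact t.Prime] (hl : l.Prime) (htl : l ≠ t) {τ g : F} (hτ : orderOf τ = t)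
    (hg : orderOf g = l) (hc : Commute τ g) {v : V} (hv : El t v) (hvS : v ∉ S)
    (hfτ : Free ρ S τ t) (hfg : Free ρ S g t) : False := by
  obtain ⟨c, hct, hcS, hτc⟩ := exists_fixed_mod ρ S hfix hτ hv hvS
  set z := ρ τ c * c⁻¹ with hz
  have hτc' : ρ τ c = c * z := by rw [hz, mul_comm c, inv_mul_cancel_right]
  have hgc : ρ g c * c⁻¹ ∈ S := by
    refine hfτ _ ?_ ?_
    · obtain ⟨i, hi⟩ := hct
      refine ⟨i, ?_⟩
      rw [mul_pow, inv_pow, ← map_pow, hi, map_one, inv_one, one_mul]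
    · have h1 : ρ τ (ρ g c) = ρ g c * z := by
        calc ρ τ (ρ g c) = (ρ (τ * g)) c := by rw [map_mul]; rfl
          _ = ρ g (ρ τ c) := by rw [hc.eq, map_mul]; rfl
          _ = ρ g c * z := by rw [hτc', map_mul, hfix g z hτc]
      rw [map_mul, map_inv, h1, hτc', mul_inv, mul_comm c⁻¹ z⁻¹, mul_assoc, mul_inv_cancel_left]
  have hpow : ∀ i : ℕ, ρ (g ^ i) c * c⁻¹ ∈ S := by
    intro i
    induction i with
    | zero => simp
    | succ i ih =>
      have h1 : ρ g (ρ (g ^ i) c * c⁻¹) = ρ (g ^ i) c * c⁻¹ := hfix g _ ih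
      rw [map_mul, map_inv] at h1
      have h2 : ρ (g ^ (i + 1)) c = ρ g (ρ (g ^ i) c) := by rw [pow_succ', map_mul]; rfl
      rw [h2, ← mul_inv_cancel_right (ρ g (ρ (g ^ i) c)) (ρ g c)⁻¹, inv_inv, h1]
      rw [show ρ (g ^ i) c * c⁻¹ * ρ g c * c⁻¹ = (ρ (g ^ i) c * c⁻¹) * (ρ g c * c⁻¹) by group]
      exact S.mul_mem ih hgc
  have hn := nm_mem ρ S (hg ▸ pow_orderOf_eq_one g) hfg hct (n := l)
  refine hcS (hct.mem_of_pow_mem ((Nat.coprime_primes hl ht.out).2 htl) ?_)
  have h2 : (∏ i ∈ Finset.range l, (ρ (g ^ i) c * c⁻¹)) ∈ S := S.prod_mem fun i _ => hpow i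
  rw [Finset.prod_mul_distrib, Finset.prod_const, Finset.card_range, inv_pow] at h2
  have h3 := S.mul_mem (S.inv_mem h2) hn
  rwa [nm, mul_inv, inv_inv, mul_comm _ (c ^ l), inv_mul_cancel_right] at h3

/-- The acting group is a `t`-group. -/
theorem isPGroup_of_free {F : Type*} [Group F] [Finite F] {V : Type*} [CommGroup V] [Finite V]
    (ρ : F →* MulAut V) (S : Subgroup V) (hfix : ∀ f : F, ∀ z ∈ S, ρ f z = z) {t : ℕ}
    [ht : Fact t.Prime] (hv : ∃ v : V, El t v ∧ v ∉ S)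
    (hT : ∀ g : F, (orderOf g).Prime → Free ρ S g t)
    (hL : ∀ l : ℕ, l.Prime → l ≠ t → ∃ s : ℕ, s.Prime ∧ s ≠ t ∧ (∃ v : V, El s v ∧ v ∉ S) ∧
      ∀ g : F, orderOf g = l ∨ orderOf g = t → Free ρ S g s)
    {τ : F} (hτ : orderOf τ = t) : IsPGroup t F := by
  classical
  obtain ⟨v, hv, hvS⟩ := hv
  have hnoTL : ∀ (l : ℕ) (u g : F), l.Prime → l ≠ t → orderOf u = t → orderOf g = l →
      (g * u * g⁻¹ ∈ zpowers u ∨ u * g * u⁻¹ ∈ zpowers g) → False := by
    intro l u g hl hlt hu hg h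
    by_cases hc : Commute u g
    · exact false_of_coprime_pair ρ S hfix hl hlt hu hg hc hv hvS (hT u (hu ▸ ht.out))
        (hT g (hg ▸ hl))
    rcases h with h | h
    · obtain ⟨s, hs, hst, ⟨w, hw, hwS⟩, hf⟩ := hL l hl hlt
      exact false_of_twisted ρ S ht.out hl hs hst.symm hu hg h (fun h' => hc h'.symm) hw hwS
        fun y hy => hf y hy.symm
    · exact false_of_twisted ρ S hl ht.out ht.out hlt hg hu h hc hv hvS fun y hy => by
        rcases hy with hy | hy
        exacts [hT y (hy ▸ hl), hT y (hy ▸ ht.out)]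
  refine IsPGroup.of_card (n := (Nat.card F).primeFactorsList.length)
    (Nat.eq_prime_pow_of_unique_prime_dvd Nat.card_pos.ne' fun {l} hl hld => ?_)
  by_contra hlt
  haveI := Fact.mk hl
  have hnpc : Cfsg.HasNormalPComplement t F := by
    rw [Transfer.hasNormalPComplement_iff_locallyPTrivial]
    intro U hU g hg hgo
    by_cases hUb : U = ⊥
    · subst hUb
      rw [mem_centralizer_iff]
      intro x hx
      rw [show x = 1 from hx, one_mul, mul_one]
    suffices hg1 : g = 1 by rw [hg1]; exact one_mem _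
    by_contra hg1
    haveI : Nontrivial U := U.nontrivial_iff_ne_bot.2 hUb
    haveI := hU.center_nontrivial
    obtain ⟨k, hk, hk'⟩ := (hU.to_subgroup (center U)).nontrivial_iff_card.1 inferInstance
    obtain ⟨z, hz⟩ := exists_prime_orderOf_dvd_card' (G := center U) t (hk' ▸ dvd_pow_self t hk.ne')
    set u : F := ((z : U) : F) with hu
    have huo : orderOf u = t := by rw [hu, Subgroup.orderOf_coe, Subgroup.orderOf_coe, hz]
    have huniq : ∀ w ∈ U, orderOf w = t → w ∈ zpowers u := by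
      intro w hw hwo
      by_contra hni
      obtain ⟨s, hs, hst, ⟨x, hx, hxS⟩, hf⟩ := hL l hl hlt
      exact false_of_comm_pair ρ S ht.out hs hst.symm huo hwo
        (congrArg Subtype.val (mem_center_iff.1 z.2 ⟨w, hw⟩)).symm hni hx hxS
        fun y hy => hf y (Or.inr hy)
    obtain ⟨m, hm, hmd⟩ := Nat.exists_prime_and_dvd (n := orderOf g)
      (fun h => hg1 (orderOf_eq_one_iff.1 h))
    set g' := g ^ (orderOf g / m) with hg'
    have hg'o : orderOf g' = m := orderOf_pow_orderOf_div (orderOf_pos g).ne' hmd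
    refine hnoTL m u g' hm (fun h => ?_) huo hg'o (Or.inl (huniq _ ?_ ?_))
    · subst h
      exact ht.out.not_dvd_one (hgo ▸ Nat.dvd_gcd hmd dvd_rfl)
    · exact (mem_normalizer_iff.1 (pow_mem hg _) u).1 (z : U).2
    · rw [← MulAut.conj_apply, MulEquiv.orderOf_eq, huo]
  obtain ⟨P, Q, hQn, hQ⟩ := hnpc
  have hcard := hQ.card_mul
  obtain ⟨k, hk⟩ := P.2.exists_card_eq
  have hlQ : l ∣ Nat.card Q := by
    rw [← hcard, hk] at hld
    exact (hl.dvd_mul.1 hld).resolve_right fun h =>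
      hlt ((Nat.prime_dvd_prime_iff_eq hl ht.out).1 (hl.dvd_of_dvd_pow h))
  have htQ : ¬ t ∣ Nat.card Q := by
    rw [← hQ.index_eq_card]
    exact P.not_dvd_index
  set A := zpowers τ with hA
  obtain ⟨L, hL'⟩ := Coprime.exists_invariant_sylow (p := l) (A := A) (K := Q)
    (by rw [normalizer_eq_top_iff.2 hQn]; exact le_top)
    (by rw [Nat.card_zpowers, hτ]; exact (ht.out.coprime_iff_not_dvd).2 htQ)
    (Or.inl inferInstance)
  set M := (L : Subgroup Q).map Q.subtype with hM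
  have hMp : IsPGroup l M := L.2.map _
  have hMne : M ≠ ⊥ := by
    intro h
    have h1 := L.dvd_card_of_dvd_card hlQ
    rw [show (L : Subgroup Q) = ⊥ from (map_eq_bot_iff_of_injective _ Q.subtype_injective).1 h,
      card_bot] at h1
    exact hl.not_dvd_one h1
  haveI : Nontrivial M := M.nontrivial_iff_ne_bot.2 hMne
  haveI := hMp.center_nontrivial
  obtain ⟨k, hk, hk'⟩ := (hMp.to_subgroup (center M)).nontrivial_iff_card.1 inferInstance
  obtain ⟨z, hz⟩ := exists_prime_orderOf_dvd_card' (G := center M) l (hk' ▸ dvd_pow_self l hk.ne')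
  set g : F := ((z : M) : F) with hg
  have hgo : orderOf g = l := by rw [hg, Subgroup.orderOf_coe, Subgroup.orderOf_coe, hz]
  by_cases hin : τ * g * τ⁻¹ ∈ zpowers g
  · exact hnoTL l τ g hl hlt hτ hgo (Or.inr hin)
  have hmem : τ * g * τ⁻¹ ∈ M :=
    (mem_normalizer_iff.1 (hL' (mem_zpowers τ)) g).1 (z : M).2
  refine false_of_comm_pair ρ S hl ht.out hlt hgo ((orderOf_map_dvd (MulAut.conj τ).toMonoidHom g).antisymm (by
      simpa [mul_assoc] using orderOf_map_dvd (MulAut.conj τ⁻¹).toMonoidHom (τ * g * τ⁻¹)) |>.trans hgo)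
    (congrArg Subtype.val (mem_center_iff.1 z.2 ⟨_, hmem⟩)).symm hin hv hvS
    fun y hy => hT y (hy ▸ hl)

end Abstract

end Cfsg.Agent.Lib.ThreeSizes
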