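import Cfsg.Agent.Lib.ThreeSizes.CaseTwo

/-!
# Three class sizes, one dividing the other: the main argument
-/

set_option autoImplicit false

namespace Cfsg.Agent.Lib.ThreeSizes

open Subgroup ClassSizeTop

universe u

variable {G : Type u} [Group G] [Finite G] {n m : ℕ} (h : Chain G n m)
include h

theorem Mono.not_le {q t : ℕ} {y v : G} (hM : Mono G n q y) (ht : t.Prime) (htq : t ≠ q)
    (hv : El t v) (hvy : v ∈ cen y) (hvZ : v ∉ center G) : ¬ cen y ≤ cen v := fun hle =>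
  hM.2.2 t ht htq v hvy hv hvZ (h.cen_eq_of_big hM.2.1 hvZ hle).symm

theorem Mono.small {q t : ℕ} (hq : q.Prime) {y v : G} (hM : Mono G n q y) (ht : t.Prime)
    (htq : t ≠ q) (hv : El t v) (hvy : v ∈ cen y) (hvZ : v ∉ center G) :
    idx (y * v) = n * m ∧ cen (y * v) = cen y ⊓ cen v :=
  h.small_of_partner hM.2.1 hq ht htq.symm hM.1 rfl hv hvy (hM.not_le h ht htq hv hvy hvZ)

theorem Mono.exists_el {q t l : ℕ} (hq : q.Prime) {y v : G} (hM : Mono G n q y) (ht : t.Prime)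
    (htq : t ≠ q) (hv : El t v) (hvy : v ∈ cen y) (hvZ : v ∉ center G) (hl : l.Prime)
    (hlq : l ≠ q) (hle : ∃ w : G, El l w ∧ w ∉ center G) :
    ∃ w ∈ cen y ⊓ cen v, El l w ∧ w ∉ center G := by
  obtain ⟨e, f⟩ := hM.small h hq ht htq hv hvy hvZ
  haveI := Fact.mk hl
  obtain ⟨a, hay, ha, haZ⟩ := exists_el_of_dvd (h.dvd_kk_big hM.2.1 hl hle)
  obtain ⟨ea, fa⟩ := hM.small h hq hl hlq ha hay haZ
  have hd : l ∣ kk (y * v) := by
    rw [kk_eq_of_idx_eq (e.trans ea.symm)]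
    exact dvd_relIndex_of_el hl (fa ▸ mem_inf.2 ⟨hay, mem_cent.2 rfl⟩) ha haZ
  obtain ⟨w, hw, hwe⟩ := exists_el_of_dvd hd
  exact ⟨w, f ▸ hw, hwe⟩

/-- All elements of the other primes in a small centralizer have the same centralizer. -/
theorem Mono.uniq {q t : ℕ} (hq : q.Prime) {y v : G} (hM : Mono G n q y) (ht : t.Prime)
    (htq : t ≠ q) (hv : El t v) (hvy : v ∈ cen y) (hvZ : v ∉ center G) {l : ℕ} (hl : l.Prime)
    (hlq : l ≠ q) :
    ∀ x ∈ cen y ⊓ cen v, El l x → x ∉ center G → cen y ⊓ cen x = cen y ⊓ cen v := by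
  obtain ⟨e, f⟩ := hM.small h hq ht htq hv hvy hvZ
  have key : ∀ (s : ℕ), s.Prime → s ≠ q → s ≠ t → ∀ w ∈ cen y ⊓ cen v, El s w → w ∉ center G →
      cen y ⊓ cen w = cen y ⊓ cen v := by
    intro s hs hsq hst w hw hwe hwZ
    obtain ⟨ew, fw⟩ := hM.small h hq hs hsq hwe (mem_inf.1 hw).1 hwZ
    have hle := h.le_cen_of_coprime e (f ▸ hw)
      (coprime_mul_el hq ht hs hsq.symm hst.symm hM.1 hv hvy hwe)
    rw [← fw, ← f]
    exact (eq_of_le_of_idx (fw ▸ le_inf (f.le.trans inf_le_left) hle) (e.trans ew.symm)).symm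
  intro x hx hxe hxZ
  by_cases hlt : l = t
  swap
  · exact key l hl hlq hlt x hx hxe hxZ
  obtain ⟨s, hs, hsq, hst, hse⟩ := h.three q t hq ht
  obtain ⟨w, hw, hwe, hwZ⟩ := hM.exists_el h hq ht htq hv hvy hvZ hs hsq hse
  have hDw := key s hs hsq hst w hw hwe hwZ
  obtain ⟨ex, fx⟩ := hM.small h hq hl hlq hxe (mem_inf.1 hx).1 hxZ
  have hwx : w ∈ cen y ⊓ cen x := by
    refine mem_inf.2 ⟨(mem_inf.1 hw).1, mem_cen_comm ?_⟩
    rw [← hDw] at hx
    exact (mem_inf.1 hx).2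
  have hle := h.le_cen_of_coprime ex (fx ▸ hwx)
    (coprime_mul_el hq hl hs hsq.symm (hlt ▸ hst.symm) hM.1 hxe (mem_inf.1 hx).1 hwe)
  rw [← fx, ← f]
  exact eq_of_le_of_idx (f ▸ hDw ▸ le_inf (fx.le.trans inf_le_left) hle) (ex.trans e.symm)

theorem Mono.exists_other {q : ℕ} (hq : q.Prime) {y : G} (hM : Mono G n q y) :
    ∃ t : ℕ, t.Prime ∧ t ≠ q ∧ ∃ v ∈ cen y, El t v ∧ v ∉ center G := by
  obtain ⟨t, ht, htq, -, hte⟩ := h.three q q hq hq
  haveI := Fact.mk ht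
  exact ⟨t, ht, htq, exists_el_of_dvd (h.dvd_kk_big hM.2.1 ht hte)⟩

theorem exists_el_of_dvd_m {y z : G} (hy : idx y = n) (hz : idx z = n * m) {l : ℕ} (hl : l.Prime)
    (hlm : l ∣ m) : ∃ w : G, El l w ∧ w ∉ center G := by
  haveI := Fact.mk hl
  have _ := hy
  exact exists_el_of_dvd_index
    ((hlm.mul_left n).trans ((dvd_of_eq hz.symm).trans (idx_dvd_index_center z)))

theorem Mono.unique_dvd {q : ℕ} (hq : q.Prime) {y : G} (hM : Mono G n q y) {r s : ℕ}
    (hr : r.Prime) (hs : s.Prime) (hrq : r ≠ q) (hsq : s ≠ q) (hrm : r ∣ m) (hsm : s ∣ m) :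
    r = s := by
  by_contra hne
  obtain ⟨t, ht, htq, v, hvy, hv, hvZ⟩ := hM.exists_other h hq
  obtain ⟨e, f⟩ := hM.small h hq ht htq hv hvy hvZ
  haveI := Fact.mk hr
  haveI := Fact.mk hs
  obtain ⟨cr, hrD, hcr, hcrZ⟩ := hM.exists_el h hq ht htq hv hvy hvZ hr hrq
    (exists_el_of_dvd_m h hM.2.1 e hr hrm)
  obtain ⟨cs, hsD, hcs, hcsZ⟩ := hM.exists_el h hq ht htq hv hvy hvZ hs hsq
    (exists_el_of_dvd_m h hM.2.1 e hs hsm)
  have hi := h.relIndex_inf hM.2.1 e f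
  exact false_of_two_nonfull (H := cen y) (Z := center G) inf_le_left
    (fun g _ z hz => mem_center_iff.1 hz g) hne hrD hcr hcrZ hsD hcs hcsZ
    (hM.uniq h hq ht htq hv hvy hvZ hr hrq) (hM.uniq h hq ht htq hv hvy hvZ hs hsq)
    (hi.symm ▸ hrm) (hi.symm ▸ hsm)

/-- The prime of a monochrome centralizer divides `m`. -/
theorem Mono.dvd {q : ℕ} (hq : q.Prime) {y : G} (hM : Mono G n q y) : q ∣ m := by
  by_contra hqm
  obtain ⟨r, hr, hrm⟩ := Nat.exists_prime_and_dvd h.hm.ne'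
  have hrq : r ≠ q := fun e => hqm (e ▸ hrm)
  have hmr : ∀ d : ℕ, d.Prime → d ∣ m → d = r := fun d hd hdm =>
    hM.unique_dvd h hq hd hr (fun e => hqm (e ▸ hdm)) hrq hdm hrm
  haveI := Fact.mk hr
  obtain ⟨t0, ht0, ht0q, v0, hv0y, hv0, hv0Z⟩ := hM.exists_other h hq
  obtain ⟨v, hvD, hv, hvZ⟩ := hM.exists_el h hq ht0 ht0q hv0 hv0y hv0Z hr hrq
    (exists_el_of_dvd_m h hM.2.1 (hM.small h hq ht0 ht0q hv0 hv0y hv0Z).1 hr hrm)
  have hvy : v ∈ cen y := (mem_inf.1 hvD).1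
  have hvH : (⟨v, hvy⟩ : cen y) ∉ center (cen y) := fun hc =>
    hM.not_le h hr hrq hv hvy hvZ fun g hg => mem_cent.2
      (congrArg Subtype.val (mem_center_iff.1 hc ⟨g, hg⟩))
  obtain ⟨R⟩ : Nonempty (Sylow r (cen y)) := inferInstance
  obtain ⟨u, -, hu, huZ, hu2⟩ := exists_centralish R
    ⟨⟨v, hvy⟩, hv.imp fun k hk => Subtype.ext (by simpa using hk), hvH⟩
  have huG : (u : G) ∉ center G := fun hc =>
    huZ (mem_center_iff.2 fun g => Subtype.ext (mem_center_iff.1 hc g))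
  have hue : El r (u : G) := hu.map (cen y).subtype
  obtain ⟨e, f⟩ := hM.small h hq hr hrq hue u.2 huG
  set D' : Subgroup (cen y) := cen u with hD'
  have hmem : ∀ w : cen y, w ∈ D' ↔ (w : G) ∈ cen (u : G) := fun w => by
    rw [hD', mem_cent, mem_cent, Subtype.ext_iff, coe_mul, coe_mul]
  have hD'i : D'.index = m := by
    have h1 : D' = (cen (u : G)).subgroupOf (cen y) := by
      ext w
      rw [mem_subgroupOf, hmem]
    rw [h1]
    show (cen (u : G)).relIndex (cen y) = m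
    rw [← inf_relIndex_right, inf_comm]
    exact h.relIndex_inf hM.2.1 e f
  have hRN : (R : Subgroup (cen y)) ≤ normalizer (D' : Set (cen y)) := le_normalizer_cen hu2
  have htop : (R : Subgroup (cen y)) ⊔ D' = ⊤ := by
    refine index_eq_one.1 (Nat.eq_one_iff_not_exists_prime_dvd.2 fun d hd hdd => ?_)
    have h1 : d = r := hmr d hd (hD'i ▸ hdd.trans (index_dvd_of_le le_sup_right))
    exact R.not_dvd_index' FiniteIndex.index_ne_zero
      ((dvd_of_eq h1.symm).trans (hdd.trans (index_dvd_of_le le_sup_left)))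
  haveI hD'n : D'.Normal := by
    refine normalizer_eq_top_iff.1 (eq_top_iff.2 ?_)
    rw [← htop]
    exact sup_le hRN le_normalizer
  obtain ⟨x, hxR, hxD⟩ : ∃ x ∈ (R : Subgroup (cen y)), x ∉ D' := by
    by_contra hno
    push Not at hno
    rw [sup_eq_right.2 hno] at htop
    rw [htop, index_top] at hD'i
    exact h.hm.ne hD'i
  have hxe : El r (x : G) :=
    (show El r x from (R.2 ⟨x, hxR⟩).imp fun k hk => congrArg Subtype.val hk).map (cen y).subtype
  have hxZ : (x : G) ∉ center G := fun hc =>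
    hxD ((hmem x).2 (mem_cent.2 (mem_center_iff.1 hc (u : G)).symm))
  obtain ⟨t, ht, htq, htr, hte⟩ := h.three q r hq hr
  obtain ⟨w, hw, hwe, hwZ⟩ := hM.exists_el h hq hr hrq hxe x.2 hxZ ht htq hte
  have hwy : w ∈ cen y := (mem_inf.1 hw).1
  have hwD : (⟨w, hwy⟩ : cen y) ∈ D' := by
    have h1 := pow_index_mem D' (⟨w, hwy⟩ : cen y)
    rw [hD'i] at h1
    exact El.mem_of_pow_mem (show El t (⟨w, hwy⟩ : cen y) from hwe.imp fun k hk =>
      Subtype.ext (by simpa using hk))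
      ((ht.coprime_iff_not_dvd.2 fun hd => htr (hmr t ht hd)).symm) h1
  have h1 := hM.uniq h hq hr hrq hue u.2 huG ht htq w (mem_inf.2 ⟨hwy, (hmem _).1 hwD⟩) hwe hwZ
  have h2 := hM.uniq h hq hr hrq hxe x.2 hxZ ht htq w hw hwe hwZ
  have h3 : (x : G) ∈ cen y ⊓ cen (u : G) := by
    rw [← h1, h2]
    exact mem_inf.2 ⟨x.2, mem_cent.2 rfl⟩
  exact hxD ((hmem x).2 (mem_inf.1 h3).2)

/-- Inside a monochrome centralizer the normalizer quotient is an `r`-group. -/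
theorem Mono.exists_pow {q r t : ℕ} (hq : q.Prime) {y v : G} (hM : Mono G n q y) (ht : t.Prime)
    (htq : t ≠ q) (hr : r.Prime) (hrq : r ≠ q) (htr : t ≠ r) (hrm : r ∣ m) (hv : El t v)
    (hvy : v ∈ cen y) (hvZ : v ∉ center G) :
    (∃ τ ∈ cen y, El r τ ∧ τ ∉ cen y ⊓ cen v ∧ τ ∈ normalizer ((cen y ⊓ cen v : Subgroup G) : Set G)) ∧
    ∀ g ∈ cen y, g ∈ normalizer ((cen y ⊓ cen v : Subgroup G) : Set G) →
      ∃ i : ℕ, g ^ r ^ i ∈ cen y ⊓ cen v := by
  haveI := Fact.mk hr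
  obtain ⟨e, f⟩ := hM.small h hq ht htq hv hvy hvZ
  obtain ⟨w, hwD, hw, hwZ⟩ := hM.exists_el h hq ht htq hv hvy hvZ hr hrq
    (exists_el_of_dvd_m h hM.2.1 e hr hrm)
  have hmA : ∀ (l : ℕ), l.Prime → l ≠ q → ∀ c ∈ cen y ⊓ cen v, El l c → c ∉ center G →
      c ∈ (cen y ⊓ cen v) ⊓ centralizer ((cen y ⊓ cen v : Subgroup G) : Set G) :=
    fun l hl hlq c hc hce hcZ => mem_inf.2 ⟨hc, le_cen_comm.1
      ((hM.uniq h hq ht htq hv hvy hvZ hl hlq c hc hce hcZ).ge.trans inf_le_right)⟩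
  have hfree : ∀ (l s : ℕ), s.Prime → s ≠ q → FreeAt (center G)
      ((cen y ⊓ cen v) ⊓ centralizer ((cen y ⊓ cen v : Subgroup G) : Set G)) (cen y ⊓ cen v)
      (cen y ⊓ normalizer ((cen y ⊓ cen v : Subgroup G) : Set G)) l s := by
    intro l s hs hsq g hg hgD _ c hc hce hgc
    by_contra hcZ
    exact hgD ((hM.uniq h hq ht htq hv hvy hvZ hs hsq c (mem_inf.1 hc).1 hce hcZ).le
      (mem_inf.2 ⟨(mem_inf.1 hg).1, mem_cent.2 hgc⟩))
  obtain ⟨τ, hτH, hτ, hτD, hτN⟩ := exists_normalizing (H := cen y) (Z := center G)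
    (D := cen y ⊓ cen v) inf_le_left (fun g _ z hz => mem_center_iff.1 hz g)
    ((h.relIndex_inf hM.2.1 e f).symm ▸ hrm) hwD hw hwZ (hM.uniq h hq ht htq hv hvy hvZ hr hrq)
  refine ⟨⟨τ, hτH, hτ, hτD, hτN⟩, fun g hgH hgN => exists_pow_mem inf_le_left
    ⟨w, hmA r hr hrq w hwD hw hwZ, hw, hwZ⟩ (fun l _ => hfree l r hr hrq)
    (fun l _ _ => ⟨t, ht, htr,
      ⟨v, hmA t ht htq v (mem_inf.2 ⟨hvy, mem_cent.2 rfl⟩) hv hvZ, hv, hvZ⟩,
      hfree l t ht htq, hfree r t ht htq⟩) hτH hτN hτD hτ hgH hgN⟩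

/-- The prime power case. -/
theorem false_of_prime_power (hns : ¬ Group.IsSolvable G) (hy : ∃ y : G, idx y = n) {a : ℕ}
    (ha : a.Prime) (hma : ∀ d : ℕ, d.Prime → d ∣ m → d = a) : False := by
  have hbig : ∀ {t : ℕ} {v : G}, t.Prime → t ≠ a → El t v → idx v = n →
      ∀ (s : ℕ), s.Prime → s ≠ a → ∀ c ∈ cen v, El s c → cen v ≤ cen c := by
    intro t v ht hta hv hvn
    rcases alpha_or_mono hv hvn with hA | hM
    · obtain ⟨a', ha', hma', hcent⟩ := hA.result h hns ht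
      obtain ⟨d, hd, hdm⟩ := Nat.exists_prime_and_dvd h.hm.ne'
      rw [(hma' d hd hdm).symm.trans (hma d hd hdm)] at hcent
      exact hcent
    · exact absurd (hma t ht (hM.dvd h ht)) hta
  have hcop : ∀ t : ℕ, t.Prime → t ≠ a → ¬ t ∣ m := fun t ht hta hd => hta (hma t ht hd)
  obtain ⟨y, hy⟩ := hy
  have hkk : ∀ (v : G), v ∉ center G → ∀ s : ℕ, s.Prime → s ≠ a →
      (∃ w : G, El s w ∧ w ∉ center G) → s ∣ kk v := by
    intro v hv s hs hsa hse
    rcases h.sizes v hv with e | e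
    · exact h.dvd_kk_big e hs hse
    · have h1 := h.dvd_kk_big hy hs hse
      rw [h.kk_big hy e] at h1
      exact (hs.dvd_mul.1 h1).resolve_right (hcop s hs hsa)
  have hne : ∀ {t s : ℕ} {v c : G}, t.Prime → s.Prime → t ≠ a → s ≠ a → t ≠ s → El t v →
      El s c → v ∉ center G → c ∉ center G → c ∈ cen v → cen c = cen v := by
    intro t s v c ht hs hta hsa hts hv hc hvZ hcZ hcv
    rcases h.sizes v hvZ with e | e
    · exact (h.cen_eq_of_big e hcZ (hbig ht hta hv e s hs hsa c hcv hc)).symm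
    rcases h.sizes c hcZ with e' | e'
    · exact h.cen_eq_of_big e' hvZ (hbig hs hsa hc e' t ht hta v (mem_cen_comm hcv) hv)
    · exact (eq_of_le_of_idx (h.le_cen_of_coprime e hcv (hv.coprime ht hs hts hc))
        (e.trans e'.symm)).symm
  have hall : ∀ {t s : ℕ} {v c : G}, t.Prime → s.Prime → t ≠ a → s ≠ a → El t v → El s c →
      v ∉ center G → c ∉ center G → c ∈ cen v → cen c = cen v := by
    intro t s v c ht hs hta hsa hv hc hvZ hcZ hcv
    by_cases hts : t = s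
    swap
    · exact hne ht hs hta hsa hts hv hc hvZ hcZ hcv
    obtain ⟨l, hl, hla, hlt, hle⟩ := h.three a t ha ht
    haveI := Fact.mk hl
    obtain ⟨w, hwv, hw, hwZ⟩ := exists_el_of_dvd (hkk v hvZ l hl hla hle)
    have h1 := hne ht hl hta hla hlt.symm hv hw hvZ hwZ hwv
    exact (hne hl hs hla hsa (fun e => hlt (e.trans hts.symm)) hw hc hwZ hcZ (h1.ge hcv)).trans h1
  obtain ⟨t, ht, hta, -, hte⟩ := h.three a a ha ha
  obtain ⟨s, hs, hsa, hst, hse⟩ := h.three a t ha ht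
  haveI := Fact.mk ht
  haveI := Fact.mk hs
  obtain ⟨v, hv, hvZ⟩ := id hte
  have hdvd : ∀ l : ℕ, l.Prime → l ≠ a → (∃ w : G, El l w ∧ w ∉ center G) → l ∣ idx v := by
    intro l hl hla hle
    have h1 := ((hl.dvd_mul.1 (h.dvd_of_el hl hle)).resolve_right (hcop l hl hla))
    rcases h.sizes v hvZ with e | e <;> rw [e]
    · exact h1
    · exact h1.mul_right m
  obtain ⟨w, hwv, hw, hwZ⟩ := exists_el_of_dvd (hkk v hvZ s hs hsa hse)
  refine false_of_two_nonfull (H := (⊤ : Subgroup G)) (D := cen v) (Z := center G) le_top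
    (fun g _ z hz => mem_center_iff.1 hz g) hst.symm (ct := v) (cs := w) (mem_cent.2 rfl) hv hvZ
    hwv hw hwZ
    (fun x hx hxe hxZ => ?_) (fun x hx hxe hxZ => ?_)
    (by rw [relIndex_top_right]; exact hdvd t ht hta hte)
    (by rw [relIndex_top_right]; exact hdvd s hs hsa hse)
  · rw [top_inf_eq, hall ht ht hta hta hv hxe hvZ hxZ hx]
  · rw [top_inf_eq, hall ht hs hta hsa hv hxe hvZ hxZ hx]

/-- The case of two primes in `m`. -/
theorem false_of_two_dvd (hns : ¬ Group.IsSolvable G) (hy : ∃ y : G, idx y = n)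
    (hm2 : ∀ a : ℕ, a.Prime → ∃ d : ℕ, d.Prime ∧ d ∣ m ∧ d ≠ a) : False := by
  have hmono : ∀ {q : ℕ} {y : G}, q.Prime → El q y → idx y = n → Mono G n q y := by
    intro q y hq hye hyn
    refine (alpha_or_mono hye hyn).resolve_left fun hA => ?_
    obtain ⟨a, ha, hma, -⟩ := hA.result h hns hq
    obtain ⟨d, hd, hdm, hda⟩ := hm2 a ha
    exact hda (hma d hd hdm)
  obtain ⟨y0, hy0⟩ := hy
  obtain ⟨q, hq, y, hyz, hy, hyZ⟩ := exists_noncentral_part (h.not_mem (Or.inl hy0))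
  have hyn : idx y = n :=
    (congrArg Subgroup.index (h.cen_eq_of_big hy0 hyZ (cen_le_of_mem_zpowers hyz))).symm.trans hy0
  have hM := hmono hq hy hyn
  obtain ⟨r, hr, hrm, hrq⟩ := hm2 q hq
  obtain ⟨t, ht, htq, htr, hte⟩ := h.three q r hq hr
  have htm : ¬ t ∣ m := fun hd => htr (hM.unique_dvd h hq ht hr htq hrq hd hrm)
  haveI := Fact.mk ht
  haveI := Fact.mk hr
  obtain ⟨v, hvy, hv, hvZ⟩ := exists_el_of_dvd (h.dvd_kk_big hyn ht hte)
  have hsmall : ∀ c : G, El t c → c ∉ center G → idx c = n * m := fun c hc hcZ =>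
    (h.sizes c hcZ).resolve_left fun e => htm ((hmono ht hc e).dvd h ht)
  obtain ⟨e, f⟩ := hM.small h hq ht htq hv hvy hvZ
  set D := cen y ⊓ cen v with hD
  have hDv : D = cen v :=
    f.symm.trans (eq_of_le_of_idx (f.le.trans inf_le_right) (e.trans (hsmall v hv hvZ).symm))
  have hmemA : ∀ c : G, c ∈ D → D ≤ cen c → c ∈ D ⊓ centralizer (D : Set G) :=
    fun c hc hle => mem_inf.2 ⟨hc, le_cen_comm.1 hle⟩
  have hyA := hmemA y (mem_inf.2 ⟨mem_cent.2 rfl, mem_cen_comm hvy⟩) inf_le_left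
  have hvA := hmemA v (mem_inf.2 ⟨hvy, mem_cent.2 rfl⟩) inf_le_right
  obtain ⟨w, hwD, hw, hwZ⟩ := hM.exists_el h hq ht htq hv hvy hvZ hr hrq
    (exists_el_of_dvd_m h hyn e hr hrm)
  have hwA := hmemA w hwD ((hM.uniq h hq ht htq hv hvy hvZ hr hrq w hwD hw hwZ).ge.trans
    inf_le_right)
  have hfree : ∀ l s : ℕ, l.Prime → s.Prime →
      (s ∣ m → ∀ o : ℕ, o.Prime → o ∣ m → o ≠ s → l ≠ o) →
      FreeAt (center G) (D ⊓ centralizer (D : Set G)) D
        ((⊤ : Subgroup G) ⊓ normalizer (D : Set G)) l s := by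
    intro l s hl hs hcond g hg hgD hgl c hc hce hgc
    by_contra hcZ
    have hDc : D ≤ cen c := le_cen_comm.2 (mem_inf.1 hc).2
    rcases h.sizes c hcZ with ec | ec
    swap
    · refine hgD ?_
      have h1 : D = cen c :=
        f.symm.trans (eq_of_le_of_idx (f.le.trans hDc) (e.trans ec.symm))
      rw [h1]
      exact mem_cent.2 hgc
    · have hMc := hmono hs hce ec
      have hsm := hMc.dvd h hs
      obtain ⟨o, ho, hom, hos⟩ := hm2 s hs
      have hto : t ≠ o := fun e' => htm (e' ▸ hom)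
      have hts : t ≠ s := fun e' => htm (e' ▸ hsm)
      have hvc : v ∈ cen c := hDc (mem_inf.1 hvA).1
      have hDc' : cen c ⊓ cen v = D := by
        rw [hDv, inf_eq_right]
        exact hDv ▸ hDc
      obtain ⟨-, hpw⟩ := hMc.exists_pow h hs ht hts ho hos hto hom hv hvc hvZ
      rw [hDc'] at hpw
      obtain ⟨i, hi⟩ := hpw g (mem_cent.2 hgc) (mem_inf.1 hg).2
      have hco : Nat.Coprime l (o ^ i) :=
        ((Nat.coprime_primes hl ho).2 (hcond hsm o ho hom hos)).pow_right i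
      refine hgD ?_
      rw [← pow_one g, ← hco.gcd_eq_one, ← zpow_natCast, Nat.gcd_eq_gcd_ab, zpow_add, zpow_mul,
        zpow_mul, zpow_natCast, zpow_natCast]
      exact mul_mem (zpow_mem hgl _) (zpow_mem hi _)
  have hi : D.relIndex ⊤ = n * m := by
    rw [relIndex_top_right, hDv]
    exact hsmall v hv hvZ
  obtain ⟨τ, -, hτ, hτD, hτN⟩ := exists_normalizing (H := ⊤) (D := D) (Z := center G) le_top
    (fun g _ z hz => mem_center_iff.1 hz g) (hi.symm ▸ h.dvd_of_el ht hte)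
    (mem_inf.1 hvA).1 hv hvZ (fun x hx hxe hxZ => by
      rw [top_inf_eq]
      have h1 := hM.uniq h hq ht htq hv hvy hvZ ht htq x hx hxe hxZ
      exact (eq_of_le_of_idx (y := x) (x := y * v) (f.le.trans (h1.ge.trans inf_le_right))
        (e.trans (hsmall x hxe hxZ).symm)).symm.trans f)
  obtain ⟨⟨g, hgy, hg, hgD, hgN⟩, -⟩ := hM.exists_pow h hq ht htq hr hrq htr hrm hv hvy hvZ
  obtain ⟨i, hgi⟩ := exists_pow_mem (H := ⊤) (D := D) le_top ⟨v, hvA, hv, hvZ⟩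
    (fun l hl => hfree l t hl ht fun htd => absurd htd htm)
    (fun l hl hlt => by
      by_cases hlq : l = q
      · exact ⟨q, hq, htq.symm, ⟨y, hyA, hy, hyZ⟩,
          hfree l q hl hq (fun _ o _ _ hoq e' => hoq (e'.symm.trans hlq)),
          hfree t q ht hq (fun _ o _ hom _ e' => htm (e' ▸ hom))⟩
      by_cases hlr : l = r
      · exact ⟨r, hr, htr.symm, ⟨w, hwA, hw, hwZ⟩,
          hfree l r hl hr (fun _ o _ _ hor e' => hor (e'.symm.trans hlr)),
          hfree t r ht hr (fun _ o _ hom _ e' => htm (e' ▸ hom))⟩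
      · exact ⟨q, hq, htq.symm, ⟨y, hyA, hy, hyZ⟩,
          hfree l q hl hq (fun _ o ho hom hoq e' =>
            hlr (e'.trans (hM.unique_dvd h hq ho hr hoq hrq hom hrm))),
          hfree t q ht hq (fun _ o _ hom _ e' => htm (e' ▸ hom))⟩)
    (mem_top τ) hτN hτD hτ (mem_top g) hgN
  exact hgD (hg.mem_of_pow_mem (((Nat.coprime_primes ht hr).2 htr).pow_left i) hgi)

omit h

/-- One size divides the other. -/
theorem solvable_caseTwo {n m : ℕ} (hn : 1 < n) (hm : 1 < m) (hs : Sizes G n (n * m))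
    (hy : ∃ y : G, idx y = n) : Group.IsSolvable G := by
  by_contra hns
  have hC : Chain G n m := ⟨hn, hm, hs, fun p q hp hq => by
    by_contra hno
    refine hns (isSolvable_of_cover hp hq fun t v ht hv hvZ => ?_)
    by_contra hne
    push Not at hne
    exact hno ⟨t, ht, hne.1, hne.2, v, hv, hvZ⟩⟩
  by_cases hp : ∃ a : ℕ, a.Prime ∧ ∀ d : ℕ, d.Prime → d ∣ m → d = a
  · obtain ⟨a, ha, hma⟩ := hp
    exact false_of_prime_power hC hns hy ha hma
  · push Not at hp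
    exact false_of_two_dvd hC hns hy hp

end Cfsg.Agent.Lib.ThreeSizes
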