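import Cfsg.Agent.Lib.ThreeSizes.Basic
import Cfsg.Agent.Lib.ClassSize.SquarefreeSizes
import Cfsg.Agent.Lib.Puig.Basic
import Cfsg.Agent.Lib.Chars.Completeness

/-!
# A solvability criterion from class sizes
-/

set_option autoImplicit false

namespace Cfsg.Agent.Lib.ThreeSizes

open Subgroup ClassSizeTop

universe u

variable {G : Type u} [Group G]

/-- Every prime divisor of `n` is `p` or `r`. -/
def PR (p r n : ℕ) : Prop := ∀ q : ℕ, q.Prime → q ∣ n → q = p ∨ q = r

theorem PR.of_dvd {p r m n : ℕ} (h : PR p r n) (hm : m ∣ n) : PR p r m :=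
  fun q hq hd => h q hq (hd.trans hm)

theorem PR.pow (p r k : ℕ) (hp : p.Prime) : PR p r (p ^ k) :=
  fun _ hq hd => Or.inl ((Nat.prime_dvd_prime_iff_eq hq hp).1 (hq.dvd_of_dvd_pow hd))

/-- `v` is central, or lies in an abelian subgroup which is normalized with `r`-power quotient by a
subgroup of `p`-power index. -/
def Big (p r : ℕ) (v : G) : Prop :=
  v ∈ center G ∨ ∃ A M : Subgroup G, A ≤ M ∧ (∃ k, M.index ∣ p ^ k) ∧
    (∀ a ∈ A, ∀ b ∈ A, a * b = b * a) ∧ (∀ g ∈ M, Norms g A) ∧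
    (∀ g ∈ M, ∃ i, g ^ r ^ i ∈ A) ∧ v ∈ A

theorem exists_el_lift [Finite G] {q : ℕ} [hq : Fact q.Prime] (N : Subgroup G) [N.Normal]
    {x : G ⧸ N} (hx : El q x) : ∃ g : G, El q g ∧ (g : G ⧸ N) = x := by
  obtain ⟨g, rfl⟩ := QuotientGroup.mk_surjective x
  obtain ⟨u, y, hxy, hc, hu, hy, hux, hyx⟩ := exists_el_part q g
  refine ⟨u, hu, ?_⟩
  obtain ⟨k, hk⟩ := hu
  obtain ⟨j, hj⟩ := hx
  have h1 : y ^ q ^ (k + j) ∈ N := by
    have h2 : g ^ q ^ (k + j) ∈ N := by
      rw [← QuotientGroup.eq_one_iff, QuotientGroup.mk_pow, pow_add, mul_comm, pow_mul, hj,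
        one_pow]
    rwa [hxy, hc.mul_pow, pow_add, pow_mul u, hk, one_pow, one_mul, ← pow_add] at h2
  obtain ⟨l, hl⟩ := exists_pow_eq_self_of_coprime (hy.symm.pow_left (k + j))
  have h3 : y ∈ N := hl ▸ pow_mem h1 l
  rw [hxy, QuotientGroup.mk_mul, (QuotientGroup.eq_one_iff y).2 h3, mul_one]

theorem idx_dvd_of_normal [Finite G] (N : Subgroup G) [N.Normal] (v : N) :
    idx v ∣ idx (v : G) := by
  have e : centralizer ({v} : Set N) = (cen (v : G)).subgroupOf N := by
    ext y
    rw [mem_subgroupOf, mem_cent, mem_cent, Subtype.ext_iff, coe_mul, coe_mul]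
  show (centralizer ({v} : Set N)).index ∣ _
  rw [e]
  exact ClassSize.relIndex_dvd_index_of_normal _ N

theorem idx_dvd_of_quotient [Finite G] (N : Subgroup G) [N.Normal] (g : G) :
    idx (g : G ⧸ N) ∣ idx g := by
  have hle : (cen g).map (QuotientGroup.mk' N) ≤ cen (g : G ⧸ N) := by
    rintro _ ⟨c, hc, rfl⟩
    refine mem_cent.2 ?_
    show QuotientGroup.mk' N c * QuotientGroup.mk' N g = QuotientGroup.mk' N g * QuotientGroup.mk' N c
    rw [← map_mul, ← map_mul, mem_cent.1 hc]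
  exact (index_dvd_of_le hle).trans (index_map_dvd _ (QuotientGroup.mk'_surjective _))

theorem Big.normal [Finite G] {p r : ℕ} (N : Subgroup G) [N.Normal] {v : N}
    (h : Big p r (v : G)) : Big p r v := by
  rcases h with h | ⟨A, M, hAM, ⟨k, hk⟩, hA, hn, hp, hv⟩
  · exact Or.inl (mem_center_iff.2 fun g => Subtype.ext (mem_center_iff.1 h g))
  · exact Or.inr ⟨A.subgroupOf N, M.subgroupOf N, fun x hx => hAM hx,
      ⟨k, (ClassSize.relIndex_dvd_index_of_normal M N).trans hk⟩,
      fun a ha b hb => Subtype.ext (hA _ ha _ hb), fun g hg a ha => hn _ hg _ ha,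
      fun g hg => (hp _ hg).imp fun i hi => by simpa [mem_subgroupOf] using hi, hv⟩

theorem Big.quotient [Finite G] {p r : ℕ} (N : Subgroup G) [N.Normal] {v : G}
    (h : Big p r v) : Big p r (v : G ⧸ N) := by
  rcases h with h | ⟨A, M, hAM, ⟨k, hk⟩, hA, hn, hp, hv⟩
  · refine Or.inl (mem_center_iff.2 fun x => ?_)
    obtain ⟨g, rfl⟩ := QuotientGroup.mk_surjective x
    rw [← QuotientGroup.mk_mul, mem_center_iff.1 h g, QuotientGroup.mk_mul]
  · refine Or.inr ⟨A.map (QuotientGroup.mk' N), M.map (QuotientGroup.mk' N), map_mono hAM,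
      ⟨k, (index_map_dvd _ (QuotientGroup.mk'_surjective _)).trans hk⟩, ?_, ?_, ?_,
      mem_map_of_mem _ hv⟩
    · rintro _ ⟨a, ha, rfl⟩ _ ⟨b, hb, rfl⟩
      rw [← map_mul, ← map_mul, hA a ha b hb]
    · rintro _ ⟨g, hg, rfl⟩ _ ⟨a, ha, rfl⟩
      exact ⟨g * a * g⁻¹, hn g hg a ha, by simp only [map_mul, map_inv]⟩
    · rintro _ ⟨g, hg, rfl⟩
      obtain ⟨i, hi⟩ := hp g hg
      exact ⟨i, g ^ r ^ i, hi, map_pow _ _ _⟩

theorem exists_fixed [Finite G] {r : ℕ} [hr : Fact r.Prime] {A M : Subgroup G} (hAM : A ≤ M)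
    (hA : ∀ a ∈ A, ∀ b ∈ A, a * b = b * a) (hn : ∀ g ∈ M, Norms g A)
    (hp : ∀ g ∈ M, ∃ i, g ^ r ^ i ∈ A) {v : G} (hv : v ∈ A) (hve : El r v) (hv1 : v ≠ 1) :
    ∃ w : G, w ≠ 1 ∧ ∀ g ∈ M, g * w = w * g := by
  let P : Subgroup M :=
    { carrier := {a | (a : G) ∈ A ∧ El r (a : G)}
      one_mem' := ⟨A.one_mem, 0, by simp⟩
      mul_mem' := fun {a b} ha hb => ⟨A.mul_mem ha.1 hb.1, by
        obtain ⟨i, hi⟩ := ha.2
        obtain ⟨j, hj⟩ := hb.2
        refine ⟨i + j, ?_⟩
        rw [coe_mul, Commute.mul_pow (hA _ ha.1 _ hb.1), pow_add, pow_mul, hi, one_pow, one_mul,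
          mul_comm, pow_mul, hj, one_pow]⟩
      inv_mem' := fun {a} ha => ⟨A.inv_mem ha.1, ha.2.imp fun k hk => by
        rw [coe_inv, inv_pow, hk, inv_one]⟩ }
  haveI hPn : P.Normal := ⟨fun a ha g => ⟨hn _ g.2 _ ha.1, ha.2.conj (g : G)⟩⟩
  have hPp : IsPGroup r P := fun a => a.2.2.imp fun k hk => Subtype.ext (Subtype.ext (by
    simpa using hk))
  obtain ⟨R⟩ : Nonempty (Sylow r M) := inferInstance
  have hPR : P ≤ (R : Subgroup M) := hPp.le_sylow_of_normal R
  obtain ⟨y, hy, hy1⟩ := Puig.exists_mem_center_of_normal R.2 (P.subgroupOf (R : Subgroup M))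
    (fun hbot => by
      have h2 : (⟨⟨v, hAM hv⟩, hPR ⟨hv, hve⟩⟩ : (R : Subgroup M)) ∈ P.subgroupOf (R : Subgroup M) :=
        mem_subgroupOf.2 ⟨hv, hve⟩
      rw [hbot, mem_bot, Subtype.ext_iff, Subtype.ext_iff] at h2
      exact hv1 h2)
  obtain ⟨hyP, hyc⟩ := mem_inf.1 hy
  set w : G := (((y : (R : Subgroup M)) : M) : G) with hw
  have hwA : w ∈ A := (mem_subgroupOf.1 hyP).1
  refine ⟨w, fun h => hy1 (Subtype.ext (Subtype.ext h)), ?_⟩
  set C : Subgroup M := (cen w).subgroupOf M with hC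
  have hAC : A.subgroupOf M ≤ C := fun a ha => mem_subgroupOf.2
    (mem_cent.2 (hA _ (mem_subgroupOf.1 ha) _ hwA))
  have hRC : (R : Subgroup M) ≤ C := fun a ha => by
    have h2 := congrArg (fun z : (R : Subgroup M) => ((z : M) : G))
      (mem_center_iff.1 hyc ⟨a, ha⟩)
    simp only [coe_mul] at h2
    exact mem_subgroupOf.2 (mem_cent.2 h2)
  haveI hAn : (A.subgroupOf M).Normal := ⟨fun a ha g => mem_subgroupOf.2
    (hn _ g.2 _ (mem_subgroupOf.1 ha))⟩
  have hq : IsPGroup r (M ⧸ A.subgroupOf M) := by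
    intro x
    obtain ⟨g, rfl⟩ := QuotientGroup.mk_surjective x
    refine (hp g g.2).imp fun i hi => ?_
    rw [← QuotientGroup.mk_pow, QuotientGroup.eq_one_iff, mem_subgroupOf]
    simpa using hi
  obtain ⟨j, hj⟩ := hq.exists_card_eq
  obtain ⟨i, -, hi⟩ := (Nat.dvd_prime_pow hr.out).1
    ((index_dvd_of_le hAC).trans ((index_eq_card _).trans hj).dvd)
  have hnd : ¬ r ∣ C.index := fun h =>
    R.not_dvd_index' FiniteIndex.index_ne_zero (h.trans (index_dvd_of_le hRC))
  rcases Nat.eq_zero_or_pos i with h0 | h0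
  · rw [h0, pow_zero, index_eq_one] at hi
    intro g hg
    exact mem_cent.1 (mem_subgroupOf.1 (hi ▸ mem_top (⟨g, hg⟩ : M)))
  · exact absurd (hi ▸ dvd_pow_self r h0.ne') hnd

theorem class_eq_one_of_simple [Finite G] [IsSimpleGroup G] {p k : ℕ} (hp : p.Prime) {w : G}
    (h : idx w ∣ p ^ k) : idx w = 1 := by
  obtain ⟨i, -, hi⟩ := (Nat.dvd_prime_pow hp).1 h
  rcases Nat.eq_zero_or_pos i with h0 | h0
  · rw [hi, h0, pow_zero]
  · exact absurd ((Chars.card_conjClass_eq_index w).trans hi) (Burnside.class_card_ne_prime_pow hp h0)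

/-- If the elements of order a power of a prime other than `p`, `r` have classes of `{p, r}`-size
and the `r`-elements are big, the group is solvable. -/
theorem solvable_of_big [Finite G] {p r : ℕ} (hp : p.Prime) (hr : r.Prime)
    (h1 : ∀ q : ℕ, q.Prime → q ≠ p → q ≠ r → ∀ v : G, El q v → PR p r (idx v))
    (h2 : ∀ v : G, El r v → Big p r v) : Group.IsSolvable G := by
  induction hn : Nat.card G using Nat.strong_induction_on generalizing G with
  | _ n ih =>
    haveI := Fact.mk hr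
    by_cases hs : ∃ N : Subgroup G, N.Normal ∧ N ≠ ⊥ ∧ N ≠ ⊤
    · obtain ⟨N, hN, hbot, htop⟩ := hs
      have hNlt : Nat.card N < n := by
        rw [← hn]
        exact Nat.lt_of_le_of_ne (card_le_card_group N) (fun h => htop (eq_top_of_card_eq _ h))
      have hQlt : Nat.card (G ⧸ N) < n := by
        rw [← hn, card_eq_card_quotient_mul_card_subgroup N]
        exact lt_mul_of_one_lt_right Nat.card_pos ((one_lt_card_iff_ne_bot N).mpr hbot)
      have := ih _ hNlt (G := N)
        (fun q hq hqp hqr v hv => (h1 q hq hqp hqr v (hv.map N.subtype)).of_dvd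
          (idx_dvd_of_normal N v))
        (fun v hv => (h2 v (hv.map N.subtype)).normal N) rfl
      have := ih _ hQlt (G := G ⧸ N)
        (fun q hq hqp hqr x hx => by
          haveI := Fact.mk hq
          obtain ⟨g, hg, rfl⟩ := exists_el_lift N hx
          exact (h1 q hq hqp hqr g hg).of_dvd (idx_dvd_of_quotient N g))
        (fun x hx => by
          obtain ⟨g, hg, rfl⟩ := exists_el_lift N hx
          exact (h2 g hg).quotient N) rfl
      exact Group.isSolvable_of_ker_le_range N.subtype (QuotientGroup.mk' N)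
        (by rw [QuotientGroup.ker_mk', Subgroup.range_subtype])
    · rcases subsingleton_or_nontrivial G with hG1 | hG1
      · exact Group.isSolvable_of_comm fun a b => Subsingleton.elim _ _
      haveI : IsSimpleGroup G :=
        ⟨fun N hN => or_iff_not_and_not.2 fun h => hs ⟨N, hN, h.1, h.2⟩⟩
      rcases (inferInstance : (center G).Normal).eq_bot_or_eq_top with hZ | hZ
      swap
      · exact Group.isSolvable_of_comm fun a b => mem_center_iff.1 (hZ ▸ mem_top b) a
      exfalso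
      have hone : ∀ w : G, ∀ k, idx w ∣ p ^ k → w = 1 := fun w k h => by
        have h3 := idx_eq_one_iff.1 (class_eq_one_of_simple hp h)
        rwa [hZ, mem_bot] at h3
      have hr1 : ∀ v : G, El r v → v = 1 := by
        intro v hv
        rcases h2 v hv with h | ⟨A, M, hAM, ⟨k, hk⟩, hA, hn', hpw, hvA⟩
        · rwa [hZ, mem_bot] at h
        · by_contra hv1
          obtain ⟨w, hw1, hw⟩ := exists_fixed hAM hA hn' hpw hvA hv hv1
          exact hw1 (hone w k ((index_dvd_of_le fun g hg => mem_cent.2 (hw g hg)).trans hk))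
      have hrG : ¬ r ∣ Nat.card G := fun h => by
        obtain ⟨v, hv⟩ := exists_prime_orderOf_dvd_card' r h
        rw [hr1 v ⟨1, by rw [pow_one, ← hv, pow_orderOf_eq_one]⟩, orderOf_one] at hv
        exact hr.one_lt.ne hv
      have hq1 : ∀ q : ℕ, q.Prime → q ≠ p → ∀ v : G, El q v → v = 1 := by
        intro q hq hqp v hv
        by_cases hqr : q = r
        · exact hr1 v (hqr ▸ hv)
        refine hone v (idx v).primeFactorsList.length (dvd_of_eq
          (Nat.eq_prime_pow_of_unique_prime_dvd (idx_pos v).ne' fun {d} hd hdd =>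
            (h1 q hq hqp hqr v hv d hd hdd).resolve_right fun e =>
              hrG (e ▸ hdd.trans (index_dvd_card _))))
      have hpG : IsPGroup p G := by
        refine IsPGroup.of_card (n := (Nat.card G).primeFactorsList.length)
          (Nat.eq_prime_pow_of_unique_prime_dvd Nat.card_pos.ne' fun {q} hq hqd => ?_)
        by_contra hqp
        haveI := Fact.mk hq
        obtain ⟨v, hv⟩ := exists_prime_orderOf_dvd_card' q hqd
        rw [hq1 q hq hqp v ⟨1, by rw [pow_one, ← hv, pow_orderOf_eq_one]⟩, orderOf_one] at hv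
        exact hq.one_lt.ne hv
      haveI := Fact.mk hp
      have := hpG.center_nontrivial
      exact (nontrivial_iff_ne_bot _).1 this hZ

/-- The special case with a single exceptional prime. -/
theorem solvable_of_ppow [Finite G] {p : ℕ} (hp : p.Prime)
    (h : ∀ q : ℕ, q.Prime → q ≠ p → ∀ v : G, El q v → ∀ d : ℕ, d.Prime → d ∣ idx v → d = p) :
    Group.IsSolvable G := by
  obtain ⟨r, hrge, hr⟩ := Nat.exists_infinite_primes (Nat.card G + p + 1)
  refine solvable_of_big hp hr (fun q hq hqp _ v hv d hd hdd => Or.inl (h q hq hqp v hv d hd hdd))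
    fun v hv => Or.inl ?_
  have h1 : v = 1 := by
    obtain ⟨k, hk⟩ := hv.orderOf_dvd
    refine orderOf_eq_one_iff.1 (Nat.eq_one_of_dvd_coprimes ?_ (orderOf_dvd_natCard v) hk)
    exact ((hr.coprime_iff_not_dvd.2 fun hd => by
      have := Nat.le_of_dvd Nat.card_pos hd
      omega).pow_left k).symm
  exact h1 ▸ one_mem _

end Cfsg.Agent.Lib.ThreeSizes
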